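import Cfsg.Agent.Base

/-!
# Groups with a Sylow `p`-subgroup of order `p`: elementary facts
-/

set_option autoImplicit false
set_option linter.unusedSectionVars false

open Subgroup

namespace CL.D1

variable {G : Type*} [Group G] {p : ℕ} [hp : Fact p.Prime] {z : G}

/-- `z ^ j` for `j : ZMod p`. -/
def zp (z : G) (j : ZMod p) : G := z ^ j.val

theorem zp_natCast (hz : orderOf z = p) (k : ℕ) : zp z (k : ZMod p) = z ^ k := by
  rw [zp, ZMod.val_natCast, ← hz, pow_mod_orderOf]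

theorem zp_zero : zp z (0 : ZMod p) = 1 := by simp [zp]

theorem zp_one (hz : orderOf z = p) : zp z (1 : ZMod p) = z := by
  simpa using zp_natCast hz 1

theorem zp_add (hz : orderOf z = p) (a b : ZMod p) : zp z (a + b) = zp z a * zp z b := by
  rw [← ZMod.natCast_zmod_val a, ← ZMod.natCast_zmod_val b, ← Nat.cast_add, zp_natCast hz,
    zp_natCast hz, zp_natCast hz, pow_add]

theorem zp_neg (hz : orderOf z = p) (a : ZMod p) : zp z (-a) = (zp z a)⁻¹ := by
  rw [eq_inv_iff_mul_eq_one, ← zp_add hz, neg_add_cancel, zp_zero]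

theorem zp_pow (hz : orderOf z = p) (a : ZMod p) (k : ℕ) : zp z a ^ k = zp z (a * (k : ZMod p)) := by
  conv_rhs => rw [← ZMod.natCast_zmod_val a, ← Nat.cast_mul, zp_natCast hz, pow_mul]
  rfl

theorem zp_pow_val (hz : orderOf z = p) (a b : ZMod p) : zp z a ^ b.val = zp z (a * b) := by
  rw [zp_pow hz, ZMod.natCast_zmod_val]

theorem zp_injective (hz : orderOf z = p) : Function.Injective (zp z : ZMod p → G) := by
  intro a b h
  have := pow_injOn_Iio_orderOf (x := z) (by rw [hz]; exact ZMod.val_lt a)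
    (by rw [hz]; exact ZMod.val_lt b) h
  exact ZMod.val_injective p this

theorem zp_eq_one_iff (hz : orderOf z = p) {a : ZMod p} : zp z a = 1 ↔ a = 0 := by
  rw [← zp_zero (z := z) (p := p), (zp_injective hz).eq_iff]

theorem zp_mem (a : ZMod p) : zp z a ∈ zpowers z := pow_mem (mem_zpowers z) _

theorem exists_zp_of_mem (hz : orderOf z = p) {x : G} (hx : x ∈ zpowers z) :
    ∃ a : ZMod p, zp z a = x := by
  have hfin : IsOfFinOrder z := by rw [← orderOf_pos_iff, hz]; exact hp.out.pos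
  obtain ⟨k, rfl⟩ := (hfin.mem_powers_iff_mem_zpowers).2 hx
  exact ⟨k, zp_natCast hz k⟩

theorem commute_zp {x : G} (h : Commute z x) (a : ZMod p) : Commute (zp z a) x := h.pow_left _

theorem commute_of_commute_zp (hz : orderOf z = p) {a : ZMod p} (ha : a ≠ 0) {x : G}
    (h : Commute (zp z a) x) : Commute z x := by
  have := h.pow_left (a⁻¹).val
  rwa [zp_pow_val hz, mul_inv_cancel₀ ha, zp_one hz] at this

theorem conj_zp (hz : orderOf z = p) {n : G} {h : ZMod p} (hn : n * z * n⁻¹ = zp z h)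
    (a : ZMod p) : n * zp z a * n⁻¹ = zp z (h * a) := by
  rw [zp, ← conj_pow, hn, zp_pow_val hz]

theorem orderOf_zp (hz : orderOf z = p) {a : ZMod p} (ha : a ≠ 0) : orderOf (zp z a) = p := by
  apply orderOf_eq_prime
  · rw [zp_pow hz, ZMod.natCast_self, mul_zero, zp_zero]
  · rwa [Ne, zp_eq_one_iff hz]

theorem not_dvd_val {a : ZMod p} (ha : a ≠ 0) : ¬ p ∣ a.val := fun h =>
  ha (by rw [← ZMod.natCast_zmod_val a]; exact (ZMod.natCast_eq_zero_iff _ _).2 h)

theorem card_zpowers_eq (hz : orderOf z = p) : Nat.card (zpowers z) = p := by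
  rw [Nat.card_zpowers, hz]

/-- The automizer of `⟨z⟩`, as a subgroup of `(ℤ/p)ˣ`. -/
def autH (hz : orderOf z = p) : Subgroup (ZMod p)ˣ where
  carrier := {h | IsConj z (zp z (h : ZMod p))}
  one_mem' := by
    change IsConj z (zp z ((1 : (ZMod p)ˣ) : ZMod p))
    rw [Units.val_one, zp_one hz]
  mul_mem' := by
    intro a b ha hb
    obtain ⟨n, hn⟩ := isConj_iff.1 ha
    obtain ⟨m, hm⟩ := isConj_iff.1 hb
    refine isConj_iff.2 ⟨n * m, ?_⟩
    rw [Units.val_mul, ← conj_zp hz hn, ← hm]; group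
  inv_mem' := by
    intro a ha
    obtain ⟨n, hn⟩ := isConj_iff.1 ha
    refine isConj_iff.2 ⟨n⁻¹, ?_⟩
    have := conj_zp hz hn ((a⁻¹ : (ZMod p)ˣ) : ZMod p)
    rw [Units.mul_inv, zp_one hz] at this
    conv_lhs => rw [← this]
    group

theorem mem_autH (hz : orderOf z = p) (h : (ZMod p)ˣ) :
    h ∈ autH hz ↔ IsConj z (zp z (h : ZMod p)) := Iff.rfl

theorem exists_unit_of_conj_mem (hz : orderOf z = p) {n : G} (hn : n * z * n⁻¹ ∈ zpowers z) :
    ∃ h : (ZMod p)ˣ, h ∈ autH hz ∧ n * z * n⁻¹ = zp z (h : ZMod p) := by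
  obtain ⟨a, ha⟩ := exists_zp_of_mem hz hn
  have ha0 : a ≠ 0 := by
    rintro rfl
    rw [zp_zero, eq_comm, conj_eq_one_iff] at ha
    rw [ha, orderOf_one] at hz
    exact hp.out.one_lt.ne hz
  exact ⟨Units.mk0 a ha0, isConj_iff.2 ⟨n, ha.symm⟩, ha.symm⟩

theorem mem_normalizer_zpowers_iff (hz : orderOf z = p) {n : G} :
    n ∈ normalizer ((zpowers z : Subgroup G) : Set G) ↔ n * z * n⁻¹ ∈ zpowers z := by
  refine ⟨fun h => (mem_normalizer_iff.1 h z).1 (mem_zpowers z), fun h => ?_⟩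
  obtain ⟨u, -, hu⟩ := exists_unit_of_conj_mem hz h
  rw [mem_normalizer_iff]
  intro x
  constructor
  · intro hx
    obtain ⟨a, rfl⟩ := exists_zp_of_mem hz hx
    rw [conj_zp hz hu]; exact zp_mem _
  · intro hx
    obtain ⟨a, ha⟩ := exists_zp_of_mem hz hx
    have := conj_zp hz hu (((u⁻¹ : (ZMod p)ˣ) : ZMod p) * a)
    rw [← mul_assoc, Units.mul_inv, one_mul, ha] at this
    have h2 : x = zp z (((u⁻¹ : (ZMod p)ˣ) : ZMod p) * a) :=
      (mul_left_cancel (mul_right_cancel this)).symm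
    rw [h2]; exact zp_mem _

theorem mem_centralizer_singleton_iff_commute {x : G} :
    x ∈ centralizer ({z} : Set G) ↔ Commute z x := by
  rw [mem_centralizer_singleton_iff]; exact ⟨fun h => h.symm, fun h => h.symm⟩

theorem card_autH [Finite G] (hz : orderOf z = p) : Nat.card (autH hz) =
    (centralizer ({z} : Set G)).relIndex (normalizer ((zpowers z : Subgroup G) : Set G)) := by
  set N := normalizer ((zpowers z : Subgroup G) : Set G)
  have hex : ∀ n : N, ∃ h : (ZMod p)ˣ, h ∈ autH hz ∧ (n : G) * z * (n : G)⁻¹ = zp z (h : ZMod p) :=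
    fun n => exists_unit_of_conj_mem hz ((mem_normalizer_zpowers_iff hz).1 n.2)
  choose f hf1 hf2 using hex
  let φ : N →* (ZMod p)ˣ := MonoidHom.mk' f (by
    intro a b
    apply Units.ext
    apply zp_injective hz
    rw [← hf2, Units.val_mul, ← conj_zp hz (hf2 a), ← hf2 b]
    simp [mul_assoc])
  have hker : φ.ker = (centralizer ({z} : Set G)).subgroupOf N := by
    ext n
    rw [MonoidHom.mem_ker, mem_subgroupOf, mem_centralizer_singleton_iff]
    constructor
    · intro h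
      have := hf2 n
      rw [show f n = 1 from h, Units.val_one, zp_one hz] at this
      exact mul_inv_eq_iff_eq_mul.1 this
    · intro h
      apply Units.ext
      apply zp_injective hz
      change zp z (f n : ZMod p) = _
      rw [← hf2, h, Units.val_one, zp_one hz]; simp
  have hrange : φ.range = autH hz := by
    ext h
    constructor
    · rintro ⟨n, rfl⟩; exact hf1 n
    · intro hh
      obtain ⟨n, hn⟩ := isConj_iff.1 hh
      have hnN : n ∈ N := (mem_normalizer_zpowers_iff hz).2 (hn ▸ zp_mem _)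
      refine ⟨⟨n, hnN⟩, Units.ext (zp_injective hz ?_)⟩
      change zp z (f ⟨n, hnN⟩ : ZMod p) = _
      rw [← hf2, hn]
  rw [relIndex, ← hker, index_ker, hrange]

variable [Finite G]

theorem not_dvd_index_zpowers (hz : orderOf z = p) (hP : ¬ p ^ 2 ∣ Nat.card G) :
    ¬ p ∣ (zpowers z).index := by
  intro h
  apply hP
  rw [← (zpowers z).card_mul_index, card_zpowers_eq hz, sq]
  exact Nat.mul_dvd_mul_left p h

theorem exists_sylow_eq (hz : orderOf z = p) (hP : ¬ p ^ 2 ∣ Nat.card G) :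
    ∃ P : Sylow p G, (P : Subgroup G) = zpowers z :=
  ⟨(IsPGroup.of_card (n := 1) (by rw [card_zpowers_eq hz, pow_one])).toSylow
    (not_dvd_index_zpowers hz hP), rfl⟩

theorem exists_conj_mem_zpowers (hz : orderOf z = p) (hP : ¬ p ^ 2 ∣ Nat.card G) {g : G}
    (hg : orderOf g = p) : ∃ x : G, x * g * x⁻¹ ∈ zpowers z := by
  obtain ⟨P, hP1⟩ := exists_sylow_eq hz hP
  obtain ⟨Q, hQ1⟩ := exists_sylow_eq hg hP
  obtain ⟨x, hx⟩ := MulAction.exists_smul_eq G Q P
  refine ⟨x, ?_⟩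
  rw [← hP1, ← hx, Sylow.coe_subgroup_smul, hQ1]
  exact smul_mem_pointwise_smul _ (MulAut.conj x) _ (mem_zpowers g)

theorem exists_K (hz : orderOf z = p) (hP : ¬ p ^ 2 ∣ Nat.card G) : ∃ K : Subgroup G,
    (∀ y, y ∈ K ↔ Commute z y ∧ ¬ p ∣ orderOf y) ∧
    Nat.card K * p = Nat.card (centralizer ({z} : Set G)) := by
  set C := centralizer ({z} : Set G)
  have hzC : zpowers z ≤ C := by
    rw [zpowers_le]; exact mem_centralizer_singleton_iff.2 rfl
  set P := (zpowers z).subgroupOf C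
  have hcP : Nat.card P = p := by
    rw [Nat.card_congr (subgroupOfEquivOfLe hzC).toEquiv, card_zpowers_eq hz]
  have hcent : ∀ u : C, u ∈ P → ∀ c : C, Commute u c := by
    intro u hu c
    obtain ⟨a, ha⟩ := exists_zp_of_mem hz (mem_subgroupOf.1 hu)
    apply Subtype.ext
    change (u : G) * c = c * u
    rw [← ha]
    exact (commute_zp (mem_centralizer_singleton_iff_commute.1 c.2) a).eq
  have hn : P.Normal := ⟨fun u hu c => by rw [← (hcent u hu c).eq]; simpa using hu⟩
  have hidx : ¬ p ∣ P.index := fun h =>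
    not_dvd_index_zpowers hz hP (h.trans (relIndex_dvd_index_of_le hzC))
  obtain ⟨K', hK'⟩ := exists_right_complement'_of_coprime (N := P)
    (by rw [hcP]; exact (Nat.Prime.coprime_iff_not_dvd hp.out).2 hidx)
  have hcK : Nat.card K' = P.index := hK'.symm.index_eq_card.symm
  refine ⟨K'.map C.subtype, fun y => ⟨?_, ?_⟩, ?_⟩
  · rintro ⟨k, hk, rfl⟩
    refine ⟨mem_centralizer_singleton_iff_commute.1 k.2, fun h => hidx ?_⟩
    rw [← hcK]
    refine h.trans ?_
    have := orderOf_dvd_natCard (⟨k, hk⟩ : K')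
    rwa [← orderOf_coe, ← orderOf_coe] at this
  · rintro ⟨h1, h2⟩
    let y' : C := ⟨y, mem_centralizer_singleton_iff_commute.2 h1⟩
    obtain ⟨⟨u, k⟩, huk⟩ := hK'.2 y'
    have huk' : (u : C) * k = y' := huk
    have hu1 : (u : C) = 1 := by
      have e1 : y' ^ (orderOf y * Nat.card K') = 1 := by
        rw [pow_mul, show orderOf y = orderOf y' from (orderOf_coe y'), pow_orderOf_eq_one, one_pow]
      have e2 : (k : C) ^ (orderOf y * Nat.card K') = 1 := by
        rw [mul_comm, pow_mul, ← Subgroup.coe_pow, pow_card_eq_one', OneMemClass.coe_one, one_pow]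
      rw [← huk', (hcent u u.2 k).mul_pow, e2, mul_one] at e1
      have e3 : (u : C) ^ p = 1 := by
        rw [← hcP, ← Subgroup.coe_pow, pow_card_eq_one', OneMemClass.coe_one]
      have e4 : Nat.Coprime p (orderOf y * Nat.card K') := by
        rw [Nat.Prime.coprime_iff_not_dvd hp.out, Nat.Prime.dvd_mul hp.out, hcK]
        tauto
      have := pow_gcd_eq_one.2 ⟨e3, e1⟩
      rwa [e4, pow_one] at this
    refine ⟨k, k.2, ?_⟩
    rw [hu1, one_mul] at huk'
    rw [huk']; rfl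
  · rw [card_map_of_injective C.subtype_injective, hcK, ← hcP, mul_comm, card_mul_index]

theorem exists_eq_zp_mul (hz : orderOf z = p) (hP : ¬ p ^ 2 ∣ Nat.card G) {c : G}
    (hc : Commute z c) : ∃ (a : ZMod p) (y : G), Commute z y ∧ ¬ p ∣ orderOf y ∧
      c = zp z a * y := by
  set m := (zpowers z).index
  have hm : ¬ p ∣ m := not_dvd_index_zpowers hz hP
  obtain ⟨K, hK, hcard⟩ := exists_K hz hP
  -- count: the map `ZMod p × K → C` is injective, hence surjective
  let f : ZMod p × K → centralizer ({z} : Set G) := fun x =>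
    ⟨zp z x.1 * x.2, mem_centralizer_singleton_iff_commute.2
      (((Commute.refl z).pow_right _).mul_right ((hK _).1 x.2.2).1)⟩
  have hinj : Function.Injective f := by
    rintro ⟨a, y⟩ ⟨b, y'⟩ h
    have h' : zp z a * y = zp z b * y' := congrArg Subtype.val h
    have e1 : zp z (a - b) = y' * (y : G)⁻¹ := by
      rw [sub_eq_neg_add, zp_add hz, zp_neg hz, eq_mul_inv_iff_mul_eq, mul_assoc, h']; simp
    have hab : a = b := by
      by_contra hne
      have := ((hK _).1 (K.mul_mem y'.2 (K.inv_mem y.2))).2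
      rw [← e1, orderOf_zp hz (sub_ne_zero.2 hne)] at this
      exact this dvd_rfl
    subst hab
    rw [Subtype.ext (mul_left_cancel h')]
  have hsurj := (Function.Injective.bijective_of_nat_card_le hinj
    (by rw [Nat.card_prod, Nat.card_zmod, ← hcard, mul_comm])).2
  obtain ⟨⟨a, y⟩, h⟩ := hsurj ⟨c, mem_centralizer_singleton_iff_commute.2 hc⟩
  exact ⟨a, y, ((hK _).1 y.2).1, ((hK _).1 y.2).2, (congrArg Subtype.val h).symm⟩

/-- Every `p`-singular element is conjugate to some `z ^ a * y`. -/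
theorem exists_conj_eq_zp_mul (hz : orderOf z = p) (hP : ¬ p ^ 2 ∣ Nat.card G) {g : G}
    (hg : p ∣ orderOf g) : ∃ (x : G) (a : ZMod p) (y : G), a ≠ 0 ∧ Commute z y ∧
      ¬ p ∣ orderOf y ∧ x * g * x⁻¹ = zp z a * y := by
  have ho : orderOf (g ^ (orderOf g / p)) = p := orderOf_pow_orderOf_div (orderOf_pos g).ne' hg
  obtain ⟨x, hx⟩ := exists_conj_mem_zpowers hz hP ho
  obtain ⟨b, hb⟩ := exists_zp_of_mem hz hx
  have hb0 : b ≠ 0 := by
    rintro rfl
    rw [zp_zero, eq_comm, conj_eq_one_iff] at hb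
    rw [hb, orderOf_one] at ho
    exact hp.out.one_lt.ne ho
  have hc : Commute z (x * g * x⁻¹) := by
    apply commute_of_commute_zp hz hb0
    rw [hb, ← conj_pow]
    exact (Commute.refl _).pow_left _
  obtain ⟨a, y, h1, h2, h3⟩ := exists_eq_zp_mul hz hP hc
  refine ⟨x, a, y, ?_, h1, h2, h3⟩
  rintro rfl
  rw [zp_zero, one_mul] at h3
  apply h2
  rw [← h3]
  have : orderOf (x * g * x⁻¹) = orderOf g := (SemiconjBy.orderOf_eq x (by simp [SemiconjBy])).symm
  rwa [this]

omit [Finite G] in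
theorem dvd_orderOf_zp_mul (hz : orderOf z = p) {a : ZMod p} (ha : a ≠ 0) {y : G}
    (h1 : Commute z y) (h2 : ¬ p ∣ orderOf y) : p ∣ orderOf (zp z a * y) := by
  rw [(commute_zp h1 a).orderOf_mul_eq_mul_orderOf_of_coprime
    (by rw [orderOf_zp hz ha]; exact (Nat.Prime.coprime_iff_not_dvd hp.out).2 h2),
    orderOf_zp hz ha]
  exact dvd_mul_right _ _

/-- A `p'`-element generating `N_G(P)` modulo `C_G(P)`. -/
theorem exists_gen_normalizer (hz : orderOf z = p) (hP : ¬ p ^ 2 ∣ Nat.card G) :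
    ∃ n₀ : G, n₀ * z * n₀⁻¹ ∈ zpowers z ∧ Commute z (n₀ ^ (p - 1)) ∧
      ¬ p ∣ orderOf (n₀ ^ (p - 1)) ∧
      ∀ n : G, n * z * n⁻¹ ∈ zpowers z → ∃ (i : ℕ) (c : G), Commute z c ∧ n = n₀ ^ i * c := by
  obtain ⟨⟨h, hh⟩, hgen⟩ := IsCyclic.exists_monoid_generator (α := autH hz)
  obtain ⟨n, hn⟩ := isConj_iff.1 hh
  have hpow : ∀ k : ℕ, n ^ k * z * (n ^ k)⁻¹ = zp z ((h : ZMod p) ^ k) := by
    intro k
    induction k with
    | zero => simp [zp_one hz]
    | succ k ih => rw [pow_succ' (h : ZMod p), ← conj_zp hz hn, ← ih, pow_succ']; group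
  have hc : Commute z (n ^ (p - 1)) := by
    have := hpow (p - 1)
    rw [ZMod.pow_card_sub_one_eq_one h.ne_zero, zp_one hz] at this
    exact (mul_inv_eq_iff_eq_mul.1 this).symm
  obtain ⟨a, y, h1, h2, h3⟩ := exists_eq_zp_mul hz hP hc
  have e1 : (n ^ p) ^ (p - 1) = y ^ p := by
    rw [← pow_mul, mul_comm, pow_mul, h3, (commute_zp h1 a).mul_pow, zp_pow hz]
    simp [zp_zero]
  refine ⟨n ^ p, by rw [hpow]; exact zp_mem _, by rw [e1]; exact h1.pow_right _, ?_, ?_⟩
  · rw [e1]; exact fun h => h2 (h.trans (orderOf_pow_dvd _))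
  · intro m hm
    obtain ⟨u, hu1, hu2⟩ := exists_unit_of_conj_mem hz hm
    obtain ⟨i, hi⟩ := hgen ⟨u, hu1⟩
    have hi' : h ^ i = u := congrArg Subtype.val hi
    refine ⟨i, ((n ^ p) ^ i)⁻¹ * m, ?_, by group⟩
    have e2 := hpow (p * i)
    rw [pow_mul (h : ZMod p), ZMod.pow_card, ← Units.val_pow_eq_pow_val, hi', ← hu2,
      pow_mul] at e2
    have : z = ((n ^ p) ^ i)⁻¹ * m * z * (((n ^ p) ^ i)⁻¹ * m)⁻¹ := by
      calc z = ((n ^ p) ^ i)⁻¹ * ((n ^ p) ^ i * z * ((n ^ p) ^ i)⁻¹) * (n ^ p) ^ i := by group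
        _ = _ := by rw [e2]; group
    exact (mul_inv_eq_iff_eq_mul.1 this.symm).symm

end CL.D1
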