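import Cfsg.Agent.Base
import Cfsg.Agent.D1.Setup

/-!
# Relative traces for a subgroup of order `p`
-/

set_option autoImplicit false
set_option linter.unusedSectionVars false

open Subgroup

namespace CL.D1

variable {G : Type*} [Group G] {p : ℕ} [hp : Fact p.Prime] {z : G}
variable {R : Type*} [CommRing R] {M : Type*} [AddCommGroup M] [Module R M]

/-- The norm operator `∑_{i<p} z ^ i`. -/
noncomputable def nrm (p : ℕ) (σ : Representation R G M) (z : G) : Module.End R M :=
  ∑ i ∈ Finset.range p, σ (z ^ i)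

theorem nrm_apply (σ : Representation R G M) (x : M) :
    nrm p σ z x = ∑ i ∈ Finset.range p, σ (z ^ i) x := by
  simp [nrm, LinearMap.sum_apply]

theorem nrm_apply_of_fixed (σ : Representation R G M) {x : M} (hx : σ z x = x) :
    nrm p σ z x = (p : R) • x := by
  have : ∀ i : ℕ, σ (z ^ i) x = x := by
    intro i
    induction i with
    | zero => simp
    | succ i ih => rw [pow_succ, map_mul, Module.End.mul_apply, hx, ih]
  simp only [nrm_apply, this, Nat.cast_smul_eq_nsmul, Finset.sum_const, Finset.card_range]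

theorem mul_nrm (σ : Representation R G M) (hz : z ^ p = 1) : σ z * nrm p σ z = nrm p σ z := by
  have e2 := Finset.sum_range_succ (fun i => σ (z ^ i)) p
  have e3 := Finset.sum_range_succ' (fun i => σ (z ^ i)) p
  rw [e3] at e2
  simp only [hz, pow_zero] at e2
  rw [nrm, Finset.mul_sum]
  conv_rhs => rw [← add_right_cancel e2]
  simp only [← map_mul, pow_succ']

theorem commute_nrm (σ : Representation R G M) {a : Module.End R M} (ha : Commute a (σ z)) :
    Commute a (nrm p σ z) :=
  Commute.sum_right _ _ _ fun i _ => by rw [map_pow]; exact ha.pow_right i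

theorem nrm_mul (σ : Representation R G M) (hz : z ^ p = 1) : nrm p σ z * σ z = nrm p σ z := by
  rw [← (commute_nrm σ (Commute.refl (σ z))).eq, mul_nrm σ hz]

theorem apply_nrm (σ : Representation R G M) (hz : z ^ p = 1) (x : M) :
    σ z (nrm p σ z x) = nrm p σ z x := by
  rw [← Module.End.mul_apply, mul_nrm σ hz]

theorem nrm_apply_z (σ : Representation R G M) (hz : z ^ p = 1) (x : M) :
    nrm p σ z (σ z x) = nrm p σ z x := by
  rw [← Module.End.mul_apply, nrm_mul σ hz]

/-- A sum of an equivariant function over a set of points moved by `z` is a norm. -/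
theorem sum_mem_range_nrm (σ : Representation R G M) (hz : z ^ p = 1) {Ω : Type*} [MulAction G Ω]
    (f : Ω → M) (hf : ∀ ω, f (z • ω) = σ z (f ω)) (S : Finset Ω) (hS : ∀ ω ∈ S, z • ω ∈ S)
    (hS' : ∀ ω ∈ S, z • ω ≠ ω) : ∑ ω ∈ S, f ω ∈ LinearMap.range (nrm p σ z) := by
  classical
  induction S using Finset.strongInduction with
  | H S ih =>
  rcases S.eq_empty_or_nonempty with rfl | ⟨ω, hω⟩
  · simp
  have hfp : ∀ (i : ℕ) ω, f (z ^ i • ω) = σ (z ^ i) (f ω) := by
    intro i ω
    induction i with
    | zero => simp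
    | succ i ih => rw [pow_succ', mul_smul, hf, ih, map_mul, Module.End.mul_apply]
  have hmem : ∀ i : ℕ, z ^ i • ω ∈ S := by
    intro i
    induction i with
    | zero => simpa
    | succ i ih => rw [pow_succ', mul_smul]; exact hS _ ih
  have hper : Function.minimalPeriod (z • ·) ω = p := by
    have h1 : Function.IsPeriodicPt (z • ·) p ω := by
      rw [Function.IsPeriodicPt, Function.IsFixedPt, smul_iterate_apply, hz, one_smul]
    rcases (Nat.dvd_prime hp.out).1 h1.minimalPeriod_dvd with h | h
    · exact absurd (Function.minimalPeriod_eq_one_iff_isFixedPt.1 h) (hS' ω hω)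
    · exact h
  have hinj : Set.InjOn (fun i : ℕ => z ^ i • ω) (Finset.range p : Set ℕ) := by
    intro a ha b hb hab
    have := Function.iterate_injOn_Iio_minimalPeriod (f := (z • ·)) (x := ω)
    rw [hper] at this
    exact this (by simpa using ha) (by simpa using hb) (by simpa [smul_iterate_apply] using hab)
  set O := (Finset.range p).image fun i : ℕ => z ^ i • ω with hO
  have hOS : O ⊆ S := by
    intro x hx
    obtain ⟨i, -, rfl⟩ := Finset.mem_image.1 hx
    exact hmem i
  have hωO : ω ∈ O := Finset.mem_image.2 ⟨0, Finset.mem_range.2 hp.out.pos, by simp⟩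
  have hmemO : ∀ i : ℕ, z ^ i • ω ∈ O := fun i =>
    Finset.mem_image.2 ⟨i % p, Finset.mem_range.2 (Nat.mod_lt _ hp.out.pos), by
      conv_rhs => rw [← Nat.mod_add_div i p, pow_add, pow_mul, hz, one_pow, mul_one]⟩
  rw [← Finset.sum_sdiff hOS]
  refine Submodule.add_mem _ (ih _ (Finset.sdiff_ssubset hOS ⟨ω, hωO⟩) ?_ ?_) ?_
  · intro x hx
    obtain ⟨hx1, hx2⟩ := Finset.mem_sdiff.1 hx
    refine Finset.mem_sdiff.2 ⟨hS x hx1, fun h => hx2 ?_⟩
    obtain ⟨i, -, hi⟩ := Finset.mem_image.1 h
    have : x = z ^ (p - 1 + i) • ω := by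
      rw [pow_add, mul_smul, hi, ← mul_smul, ← pow_succ, Nat.sub_add_cancel hp.out.pos, hz,
        one_smul]
    rw [this]; exact hmemO _
  · exact fun x hx => hS' x (Finset.mem_sdiff.1 hx).1
  · rw [hO, Finset.sum_image hinj]
    exact ⟨f ω, by simp [nrm_apply, hfp]⟩

theorem apply_of_mem_zpowers (σ : Representation R G M) {x : M} (hx : σ z x = x) {u : G}
    (hu : u ∈ zpowers z) : σ u x = x := by
  let S : Subgroup G :=
    { carrier := {u | σ u x = x}
      one_mem' := by simp
      mul_mem' := fun {a b} (ha : σ a x = x) (hb : σ b x = x) => by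
        change σ (a * b) x = x
        rw [map_mul, Module.End.mul_apply, hb, ha]
      inv_mem' := fun {a} (ha : σ a x = x) => by
        change σ a⁻¹ x = x
        conv_lhs => rw [← ha]
        rw [← Module.End.mul_apply, ← map_mul, inv_mul_cancel, map_one, Module.End.one_apply] }
  exact (zpowers_le (H := S)).2 hx hu

theorem apply_out_mk (σ : Representation R G M) {x : M} (hx : σ z x = x) (g : G) :
    σ (g : G ⧸ zpowers z).out x = σ g x := by
  obtain ⟨u, hu⟩ := QuotientGroup.mk_out_eq_mul (zpowers z) g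
  rw [hu, map_mul, Module.End.mul_apply, apply_of_mem_zpowers σ hx u.2]

theorem apply_out_smul (σ : Representation R G M) {x : M} (hx : σ z x = x) (g : G)
    (q : G ⧸ zpowers z) : σ (g • q).out x = σ g (σ q.out x) := by
  conv_lhs => rw [← q.out_eq']
  rw [MulAction.Quotient.smul_mk, apply_out_mk σ hx, smul_eq_mul, map_mul, Module.End.mul_apply]

theorem conj_mem_of_smul_eq {q : G ⧸ zpowers z} (hq : z • q = q) :
    q.out⁻¹ * z * q.out ∈ zpowers z := by
  rw [← q.out_eq', MulAction.Quotient.smul_mk, eq_comm, QuotientGroup.eq] at hq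
  simpa [mul_assoc] using hq

variable [Finite G]

/-- relative trace from `⟨z⟩` to `G` -/
noncomputable def trG (σ : Representation R G M) (z : G) (x : M) : M :=
  haveI := Fintype.ofFinite (G ⧸ zpowers z)
  ∑ q : G ⧸ zpowers z, σ q.out x

/-- the cosets fixed by `z` -/
noncomputable def fixQ (z : G) : Finset (G ⧸ zpowers z) :=
  haveI := Fintype.ofFinite (G ⧸ zpowers z)
  haveI := Classical.decEq (G ⧸ zpowers z)
  Finset.univ.filter fun q => z • q = q

theorem mem_fixQ {q : G ⧸ zpowers z} : q ∈ fixQ z ↔ z • q = q := by simp [fixQ]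

/-- relative trace from `⟨z⟩` to its normalizer -/
noncomputable def trN (σ : Representation R G M) (z : G) (x : M) : M :=
  ∑ q ∈ fixQ z, σ q.out x

theorem apply_trG (σ : Representation R G M) {x : M} (hx : σ z x = x) (g : G) :
    σ g (trG σ z x) = trG σ z x := by
  let _ := Fintype.ofFinite (G ⧸ zpowers z)
  unfold trG
  rw [map_sum]
  simp only [← apply_out_smul σ hx]
  exact Fintype.sum_equiv (MulAction.toPerm g) _ _ fun _ => rfl

theorem apply_trN (σ : Representation R G M) {x : M} (hx : σ z x = x) {g : G}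
    (hg : Commute z g) : σ g (trN σ z x) = trN σ z x := by
  unfold trN
  rw [map_sum]
  simp only [← apply_out_smul σ hx]
  refine Finset.sum_equiv (MulAction.toPerm g) (fun q => ?_) fun _ _ => rfl
  simp only [mem_fixQ, MulAction.toPerm_apply]
  rw [← mul_smul, hg.eq, mul_smul, smul_left_cancel_iff]

theorem trG_sub_trN_mem (σ : Representation R G M) (hz : z ^ p = 1) {x : M} (hx : σ z x = x) :
    trG σ z x - trN σ z x ∈ LinearMap.range (nrm p σ z) := by
  classical
  let _ := Fintype.ofFinite (G ⧸ zpowers z)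
  have : trG σ z x - trN σ z x = ∑ q ∈ Finset.univ \ fixQ z, σ q.out x := by
    rw [Finset.sum_sdiff_eq_sub (Finset.subset_univ _)]; rfl
  rw [this]
  refine sum_mem_range_nrm σ hz (fun q : G ⧸ zpowers z => σ q.out x)
    (fun q => apply_out_smul σ hx z q) _ ?_ ?_
  · intro q hq
    simp only [Finset.mem_sdiff, Finset.mem_univ, mem_fixQ, true_and] at hq ⊢
    exact fun h => hq (smul_left_cancel z h)
  · intro q hq
    simpa [mem_fixQ] using hq

theorem not_dvd_card_fixQ (hz : orderOf z = p) (hP : ¬ p ^ 2 ∣ Nat.card G) :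
    ¬ p ∣ (fixQ z).card := by
  intro h
  have hzp : z ^ p = 1 := hz ▸ pow_orderOf_eq_one z
  obtain ⟨x, hx⟩ := trG_sub_trN_mem (Representation.trivial ℤ G ℤ) hzp (x := 1) rfl
  rw [nrm_apply_of_fixed _ rfl] at hx
  simp only [trG, trN, Representation.trivial_apply, Finset.sum_const, Finset.card_univ,
    nsmul_eq_mul, mul_one, smul_eq_mul] at hx
  apply not_dvd_index_zpowers hz hP
  let _ := Fintype.ofFinite (G ⧸ zpowers z)
  rw [index, Nat.card_eq_fintype_card, ← Int.natCast_dvd_natCast, ← eq_sub_iff_add_eq.1 hx]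
  exact dvd_add (dvd_mul_right _ _) (Int.natCast_dvd_natCast.2 h)

end CL.D1
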