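import Cfsg.Agent.Base
import Cfsg.Agent.Auto.APadic_897cb2

/-!
# `p`-adic tools for the defect one theory

An embedding of `ℤ_[p]` into `ℂ`, irreducibility of the `p`-th cyclotomic polynomial over `ℤ_[p]`,
and Fitting idempotents of endomorphisms of `ℤ_[p]`-lattices.
-/

set_option autoImplicit false

open Polynomial Cardinal

namespace CL.D1

variable {p : ℕ} [hp : Fact p.Prime]

theorem mk_padic : #ℚ_[p] = 𝔠 := by
  apply le_antisymm
  · have h1 : #ℚ_[p] ≤ #(CauSeq ℚ (padicNorm p)) := Cardinal.mk_quotient_le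
    refine h1.trans ((Cardinal.mk_subtype_le _).trans ?_)
    simp
  · simpa using continuum_le_cardinal_of_nontriviallyNormedField ℚ_[p]

theorem exists_padicInt_embedding (p : ℕ) [Fact p.Prime] :
    ∃ ι : ℤ_[p] →+* ℂ, Function.Injective ι := by
  have h1 : #(AlgebraicClosure ℚ_[p]) = 𝔠 := by
    apply le_antisymm
    · refine (Algebra.IsAlgebraic.cardinalMk_le_max ℚ_[p] (AlgebraicClosure ℚ_[p])).trans ?_
      rw [mk_padic]
      exact max_le le_rfl aleph0_le_continuum
    · rw [← mk_padic (p := p)]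
      exact Cardinal.mk_le_of_injective (algebraMap ℚ_[p] (AlgebraicClosure ℚ_[p])).injective
  obtain ⟨e⟩ := IsAlgClosed.ringEquiv_of_equiv_of_charZero (K := AlgebraicClosure ℚ_[p]) (L := ℂ)
    (by rw [h1]; exact aleph0_lt_continuum)
    (Cardinal.eq.1 (by rw [h1, Cardinal.mk_complex]))
  refine ⟨(e.toRingHom.comp (algebraMap ℚ_[p] (AlgebraicClosure ℚ_[p]))).comp
    (PadicInt.Coe.ringHom (p := p)), ?_⟩
  exact (e.injective.comp (algebraMap ℚ_[p] (AlgebraicClosure ℚ_[p])).injective).comp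
    Subtype.val_injective

theorem irreducible_cyclotomic_padicInt : Irreducible (cyclotomic p ℤ_[p]) := by
  have hE := cyclotomic_comp_X_add_one_isEisensteinAt p
  have hmon : ((cyclotomic p ℤ_[p]).comp (X + 1)).Monic := by
    have := (cyclotomic.monic p ℤ_[p]).comp (monic_X_add_C (1 : ℤ_[p]))
      (by rw [natDegree_X_add_C]; simp)
    simpa using this
  have hmap : (cyclotomic p ℤ_[p]).comp (X + 1) =
      ((cyclotomic p ℤ).comp (X + 1)).map (Int.castRingHom ℤ_[p]) := by
    simp [map_comp]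
  have hmon0 : ((cyclotomic p ℤ).comp (X + 1)).Monic := by
    have := (cyclotomic.monic p ℤ).comp (monic_X_add_C (1 : ℤ))
      (by rw [natDegree_X_add_C]; simp)
    simpa using this
  have hdeg : ((cyclotomic p ℤ_[p]).comp (X + 1)).natDegree =
      ((cyclotomic p ℤ).comp (X + 1)).natDegree := by
    rw [hmap, hmon0.natDegree_map]
  have hP : (Ideal.span {(p : ℤ_[p])}).IsPrime := by
    rw [← PadicInt.maximalIdeal_eq_span_p]; infer_instance
  have hE' : ((cyclotomic p ℤ_[p]).comp (X + 1)).IsEisensteinAt (Ideal.span {(p : ℤ_[p])}) := by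
    refine ⟨?_, ?_, ?_⟩
    · rw [hmon.leadingCoeff]
      exact fun h => hP.ne_top ((Ideal.eq_top_iff_one _).2 h)
    · intro n hn
      rw [hdeg] at hn
      have := hE.mem hn
      rw [hmap, coeff_map]
      obtain ⟨c, hc⟩ := Ideal.mem_span_singleton.1 this
      rw [hc]
      exact Ideal.mem_span_singleton.2 ⟨c, by simp⟩
    · rw [coeff_zero_eq_eval_zero, eval_comp]
      simp only [eval_add, eval_X, eval_one, zero_add, eval_one_cyclotomic_prime,
        Ideal.span_singleton_pow, Ideal.mem_span_singleton]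
      rintro ⟨c, hc⟩
      have hp0 : (p : ℤ_[p]) ≠ 0 := Nat.cast_ne_zero.2 hp.out.ne_zero
      have : (1 : ℤ_[p]) = p * c := by
        apply mul_left_cancel₀ hp0
        rw [mul_one, ← mul_assoc, ← sq]; exact hc
      exact PadicInt.prime_p.not_isUnit (IsUnit.of_mul_eq_one c this.symm)
  have hirr := hE'.irreducible hP hmon.isPrimitive (by
    rw [natDegree_comp, natDegree_cyclotomic, Nat.totient_prime hp.out]
    have : (X + 1 : ℤ_[p][X]).natDegree = 1 := by simpa using natDegree_X_add_C (1 : ℤ_[p])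
    rw [this]
    have := hp.out.two_le
    omega)
  have := (MulEquiv.irreducible_iff (algEquivAevalXAddC (1 : ℤ_[p]))
    (x := cyclotomic p ℤ_[p])).1 (by simpa [algEquivAevalXAddC, ← comp_eq_aeval] using hirr)
  exact this

/-- A polynomial over `ℤ_[p]` vanishing at a primitive `p`-th root of unity is divisible by the
cyclotomic polynomial. -/
theorem cyclotomic_dvd_of_eval₂_eq_zero {ι : ℤ_[p] →+* ℂ} (hι : Function.Injective ι) {ζ : ℂ}
    (hζ : IsPrimitiveRoot ζ p) {d : ℤ_[p][X]} (hd : eval₂ ι ζ d = 0) :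
    cyclotomic p ℤ_[p] ∣ d := by
  let _ : Algebra ℤ_[p] ℂ := ι.toAlgebra
  have _ : FaithfulSMul ℤ_[p] ℂ := (faithfulSMul_iff_algebraMap_injective _ _).2 hι
  have _ : NeZero (p : ℂ) := ⟨Nat.cast_ne_zero.2 hp.out.ne_zero⟩
  have hroot : aeval ζ (cyclotomic p ℤ_[p]) = 0 := by
    rw [aeval_def, eval₂_eq_eval_map, map_cyclotomic]
    exact hζ.isRoot_cyclotomic hp.out.pos
  have hint : IsIntegral ℤ_[p] ζ := ⟨_, cyclotomic.monic p ℤ_[p], hroot⟩
  have h1 : minpoly ℤ_[p] ζ ∣ cyclotomic p ℤ_[p] := minpoly.isIntegrallyClosed_dvd hint hroot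
  have h2 : minpoly ℤ_[p] ζ ∣ d := minpoly.isIntegrallyClosed_dvd hint hd
  obtain ⟨q, hq⟩ := h1
  rcases irreducible_cyclotomic_padicInt.isUnit_or_isUnit hq with h | h
  · exact absurd h (minpoly.not_isUnit _ _)
  · exact (hq ▸ (Associated.dvd (associated_mul_unit_left _ _ h))).trans h2

theorem exists_pow_idempotent_of_finite {M : Type*} [Monoid M] [Finite M] (x : M) :
    ∃ m, 0 < m ∧ IsIdempotentElem (x ^ m) := by
  obtain ⟨a, b, hab, h⟩ := Finite.exists_ne_map_eq_of_infinite (fun n : ℕ => x ^ n)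
  wlog hlt : a < b generalizing a b
  · exact this b a hab.symm h.symm (by omega)
  obtain ⟨d, rfl⟩ := Nat.exists_eq_add_of_lt hlt
  have key : ∀ k n, a ≤ n → x ^ (n + k * (d + 1)) = x ^ n := by
    intro k
    induction k with
    | zero => simp
    | succ k ih =>
      intro n hn
      obtain ⟨c, rfl⟩ := Nat.exists_eq_add_of_le hn
      have : a + c + (k + 1) * (d + 1) = (a + d + 1) + (c + k * (d + 1)) := by ring
      rw [this, pow_add, ← (show x ^ a = x ^ (a + d + 1) from h), ← pow_add, ← add_assoc,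
        ih _ (by omega)]
  refine ⟨(a + 1) * (d + 1), by positivity, ?_⟩
  rw [IsIdempotentElem, ← pow_add, key _ _ (by nlinarith)]

theorem isPrecomplete_of_finite {R M : Type*} [CommRing R] (I : Ideal R) [IsPrecomplete I R]
    [AddCommGroup M] [Module R M] [Module.Finite R M] : IsPrecomplete I M := by
  rw [← AdicCompletion.of_surjective_iff]
  intro y
  obtain ⟨t, rfl⟩ := AdicCompletion.ofTensorProduct_surjective_of_finite I M y
  induction t with
  | zero => exact ⟨0, by simp⟩
  | tmul r x =>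
    obtain ⟨r, rfl⟩ := AdicCompletion.of_surjective I R r
    refine ⟨r • x, ?_⟩
    rw [AdicCompletion.ofTensorProduct_tmul, map_smul]
    rfl
  | add a b ha hb =>
    obtain ⟨a', ha⟩ := ha
    obtain ⟨b', hb⟩ := hb
    exact ⟨a' + b', by rw [map_add, map_add, ha, hb]⟩

theorem exists_fitting_comm {R : Type*} [CommRing R] [Algebra ℤ_[p] R] [Module.Finite ℤ_[p] R]
    (x : R) : ∃ (m : ℕ) (η r s : R), 0 < m ∧ IsIdempotentElem η ∧ η = x ^ m + p * r ∧
      η = x * s := by
  let I : Ideal ℤ_[p] := IsLocalRing.maximalIdeal ℤ_[p]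
  let J : Ideal R := I.map (algebraMap ℤ_[p] R)
  have hJ : J = Ideal.span {(p : R)} := by
    simp only [J, I, PadicInt.maximalIdeal_eq_span_p, Ideal.map_span, Set.image_singleton,
      map_natCast]
  have _ : IsPrecomplete I R := isPrecomplete_of_finite I
  have _ : IsPrecomplete J R := IsPrecomplete.map_algebraMap_iff.2 inferInstance
  have _ : IsHausdorff J R := IsHausdorff.map_algebraMap_iff.2 inferInstance
  have _ : IsAdicComplete J R := {}
  have _ : Finite (ℤ_[p] ⧸ I) := Finite.of_equiv _ (PadicInt.residueField (p := p)).toEquiv.symm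
  have _ : Module.Finite (ℤ_[p] ⧸ I) (R ⧸ J) :=
    Module.Finite.of_restrictScalars_finite ℤ_[p] _ _
  have _ : Finite (R ⧸ J) := Module.finite_of_finite (ℤ_[p] ⧸ I)
  obtain ⟨m, hm, hid⟩ := exists_pow_idempotent_of_finite (Ideal.Quotient.mk J x)
  obtain ⟨η, hη, hηx⟩ := HenselianRing.is_henselian (I := J) (X ^ 2 - X : R[X])
    (by
      nontriviality R
      apply Monic.sub_of_left (monic_X_pow 2)
      rw [degree_X_pow, degree_X]; norm_num) (x ^ m)
    (by
      rw [← Ideal.Quotient.eq_zero_iff_mem]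
      simp only [eval_sub, eval_pow, eval_X, map_sub, map_pow]
      rw [sq, hid, sub_self])
    (by
      refine IsUnit.of_mul_eq_one (2 * Ideal.Quotient.mk J x ^ m - 1) ?_
      have h0 : eval (x ^ m) (derivative (X ^ 2 - X : R[X])) = 2 * x ^ m - 1 := by
        simp; ring
      have := hid.eq
      rw [h0, map_sub, map_mul, map_pow, map_one, map_ofNat]
      linear_combination 4 * this)
  have hη' : IsIdempotentElem η := by
    have := hη.eq_zero
    simp only [eval_sub, eval_pow, eval_X] at this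
    rw [IsIdempotentElem, ← sq]; exact sub_eq_zero.1 this
  have hηx' := hηx
  rw [hJ, Ideal.mem_span_singleton] at hηx'
  obtain ⟨r, hr⟩ := hηx'
  have hu : IsUnit (1 - (η - x ^ m)) := by
    have := Ideal.mem_jacobson_bot.1 (HenselianRing.jac (I := J) hηx) (-1)
    convert this using 1; ring
  obtain ⟨u, hu⟩ := hu.exists_right_inv
  obtain ⟨k, rfl⟩ := Nat.exists_eq_add_of_lt hm
  refine ⟨0 + k + 1, η, r, x ^ k * η * u, hm, hη', by rw [← hr]; ring, ?_⟩
  have h1 := hη'.eq
  have : η * (1 - (η - x ^ (0 + k + 1))) = η * x ^ (0 + k + 1) := by linear_combination -h1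
  calc η = η * ((1 - (η - x ^ (0 + k + 1))) * u) := by rw [hu, mul_one]
    _ = _ := by rw [← mul_assoc, this]; ring

/-- Fitting idempotent of an element of a finite `ℤ_[p]`-algebra. -/
theorem exists_fitting {A : Type*} [Ring A] [Algebra ℤ_[p] A] [Module.Finite ℤ_[p] A] (f : A) :
    ∃ (m : ℕ) (η r s : A), 0 < m ∧ IsIdempotentElem η ∧ η = f ^ m + (p : ℤ_[p]) • r ∧
      η = f * s ∧ (∀ a, Commute a f → Commute a η) ∧ (∀ a, Commute a f → Commute a r) := by
  obtain ⟨q, hq, hqf⟩ : IsIntegral ℤ_[p] f := IsIntegral.of_finite ℤ_[p] f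
  have _ : Module.Finite ℤ_[p] (AdjoinRoot q) := hq.finite_adjoinRoot
  let φ : AdjoinRoot q →ₐ[ℤ_[p]] A := Ideal.Quotient.liftₐ (Ideal.span {q}) (aeval f) (by
    intro a ha
    obtain ⟨c, rfl⟩ := Ideal.mem_span_singleton.1 ha
    rw [map_mul, show aeval f q = 0 from hqf, zero_mul])
  have hφ : ∀ a : ℤ_[p][X], φ (AdjoinRoot.mk q a) = aeval f a := fun a => rfl
  have hX : φ (AdjoinRoot.root q) = f := by
    rw [← AdjoinRoot.mk_X, hφ, aeval_X]
  have hc : ∀ (y : AdjoinRoot q) a, Commute a f → Commute a (φ y) := by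
    intro y a ha
    obtain ⟨y, rfl⟩ := AdjoinRoot.mk_surjective y
    rw [hφ]
    exact Algebra.commute_of_mem_adjoin_singleton_of_commute (aeval_mem_adjoin_singleton _ _) ha
  obtain ⟨m, η, r, s, hm, hη, h1, h2⟩ := exists_fitting_comm (p := p) (AdjoinRoot.root q)
  refine ⟨m, φ η, φ r, φ s, hm, hη.map φ, ?_, ?_, hc η, hc r⟩
  · rw [h1, map_add, map_pow, hX, map_mul, map_natCast, Nat.cast_smul_eq_nsmul, nsmul_eq_mul]
  · rw [h2, map_mul, hX]

end CL.D1
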