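import Cfsg.Agent.Base
import Cfsg.Agent.D1.Padic
import Cfsg.Agent.Char.Eigen

/-!
# Traces on `ℤ_[p]`-lattices: the twisting lemma and rationality
-/

set_option autoImplicit false

open Polynomial Module

namespace CL.D1

variable {p : ℕ} [hp : Fact p.Prime]

theorem prim_root : IsPrimitiveRoot (Complex.exp (2 * Real.pi * Complex.I / p)) p :=
  Complex.isPrimitiveRoot_exp p hp.out.ne_zero

theorem not_isUnit_p : ¬ IsUnit (p : ℤ_[p]) := PadicInt.prime_p.not_isUnit

theorem twist_complex {n : Type*} [Fintype n] [DecidableEq n] {ζ : ℂ} (hζ : IsPrimitiveRoot ζ p)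
    (z zi e h y : Matrix n n ℂ) (hz : z ^ p = 1) (hzi : zi * z = 1) (he : e * e = e)
    (hez : Commute e z) (heh : e * h = h) (hhe : h * e = h) (hyz : Commute y z)
    (hye : Commute y e) (hyh : Commute y h)
    (hdet : (∑ i ∈ Finset.range p, ζ ^ i • (z ^ i * h * zi ^ i) + (1 - e)).det ≠ 0)
    {j : ℕ} (hj : ¬ p ∣ j) : (z ^ j * y * e).trace = 0 := by
  have hzi' : z * zi = 1 := mul_eq_one_comm.1 hzi
  have hc : Commute z zi := by rw [Commute, SemiconjBy, hzi, hzi']
  have inv_comm : ∀ a : Matrix n n ℂ, Commute a z → Commute a zi := by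
    intro a ha
    calc a * zi = zi * z * a * zi := by rw [hzi, one_mul]
      _ = zi * a * (z * zi) := by rw [mul_assoc zi z, ← ha.eq]; simp only [mul_assoc]
      _ = zi * a := by rw [hzi', mul_one]
  have hzip : zi ^ p = 1 := by
    have : zi ^ p * z ^ p = 1 := by rw [← hc.symm.mul_pow, hzi, one_pow]
    rwa [hz, mul_one] at this
  set F0 := ∑ i ∈ Finset.range p, ζ ^ i • (z ^ i * h * zi ^ i) with hF0
  have h1 : F0 * z = ζ • (z * F0) := by
    have e1 : ζ • (z * F0) =
        (∑ i ∈ Finset.range p, ζ ^ (i + 1) • (z ^ (i + 1) * h * zi ^ (i + 1))) * z := by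
      rw [hF0, Finset.mul_sum, Finset.smul_sum, Finset.sum_mul]
      refine Finset.sum_congr rfl fun i _ => ?_
      rw [mul_smul_comm, smul_smul, smul_mul_assoc, pow_succ' ζ, pow_succ' z, pow_succ zi]
      simp only [mul_assoc, hzi, mul_one]
    rw [e1]
    congr 1
    have e2 := Finset.sum_range_succ (fun i => ζ ^ i • (z ^ i * h * zi ^ i)) p
    have e3 := Finset.sum_range_succ' (fun i => ζ ^ i • (z ^ i * h * zi ^ i)) p
    rw [e3] at e2
    simp only [hζ.pow_eq_one, hz, hzip, pow_zero] at e2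
    exact (add_right_cancel e2).symm
  have h2 : ∀ k : ℕ, F0 * z ^ k = ζ ^ k • (z ^ k * F0) := by
    intro k
    induction k with
    | zero => simp
    | succ k ih =>
      rw [pow_succ, ← mul_assoc, ih, smul_mul_assoc, mul_assoc, h1, mul_smul_comm, smul_smul,
        ← mul_assoc, ← pow_succ]
  have hyF : Commute y F0 := Commute.sum_right _ _ _ fun i _ =>
    (((hyz.pow_right i).mul_right hyh).mul_right ((inv_comm y hyz).pow_right i)).smul_right _
  have heF : e * F0 = F0 := by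
    rw [hF0, Finset.mul_sum]
    refine Finset.sum_congr rfl fun i _ => ?_
    rw [mul_smul_comm, ← mul_assoc, ← mul_assoc, (hez.pow_right i).eq, mul_assoc _ e, heh]
  have hFe : F0 * e = F0 := by
    rw [hF0, Finset.sum_mul]
    refine Finset.sum_congr rfl fun i _ => ?_
    rw [smul_mul_assoc, mul_assoc, ← ((inv_comm e hez).pow_right i).eq, ← mul_assoc,
      mul_assoc _ h, hhe]
  set T := z ^ j * y * e with hT
  have hTe : e * T = T := by
    rw [hT, ← mul_assoc, ← mul_assoc, (hez.pow_right j).eq, mul_assoc _ e, ← hye.eq,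
      mul_assoc, mul_assoc, he, ← mul_assoc]
  have h3 : (F0 + (1 - e)) * T = ζ ^ j • (T * (F0 + (1 - e))) := by
    rw [add_mul, sub_mul, one_mul, hTe, sub_self, add_zero, mul_add, mul_sub, mul_one, hT,
      mul_assoc _ e e, he, sub_self, add_zero, mul_assoc _ e, heF, ← mul_assoc, ← mul_assoc, h2,
      smul_mul_assoc, smul_mul_assoc, mul_assoc _ F0, ← hyF.eq, mul_assoc, mul_assoc, hFe,
      mul_assoc]
  set F := F0 + (1 - e)
  have hu : F * F⁻¹ = 1 := Matrix.mul_nonsing_inv _ (isUnit_iff_ne_zero.2 hdet)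
  have hu' : F⁻¹ * F = 1 := Matrix.nonsing_inv_mul _ (isUnit_iff_ne_zero.2 hdet)
  have h4 : T.trace = ζ ^ j * T.trace := by
    calc T.trace = (F⁻¹ * (F * T)).trace := by rw [← mul_assoc, hu', one_mul]
      _ = (F * T * F⁻¹).trace := Matrix.trace_mul_comm _ _
      _ = _ := by rw [h3, smul_mul_assoc, mul_assoc, hu, mul_one, Matrix.trace_smul, smul_eq_mul]
  have h5 : ζ ^ j ≠ 1 := fun h => hj (hζ.dvd_of_pow_eq_one j h)
  have : (1 - ζ ^ j) * T.trace = 0 := by linear_combination h4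
  exact (mul_eq_zero.1 this).resolve_left (sub_ne_zero.2 h5.symm)

theorem twist_matrix {n : Type*} [Fintype n] [DecidableEq n]
    (Z Zi E H Y : Matrix n n ℤ_[p]) (hz : Z ^ p = 1) (hzi : Zi * Z = 1) (he : E * E = E)
    (hez : Commute E Z) (heh : E * H = H) (hhe : H * E = H) (hyz : Commute Y Z)
    (hye : Commute Y E) (hyh : Commute Y H)
    (hsum : ∑ i ∈ Finset.range p, Z ^ i * H * Zi ^ i = E)
    {j : ℕ} (hj : ¬ p ∣ j) : (Z ^ j * Y * E).trace = 0 := by
  obtain ⟨ι, hι⟩ := exists_padicInt_embedding p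
  have hζ := prim_root (p := p)
  set ζ := Complex.exp (2 * Real.pi * Complex.I / p)
  let Φ : Matrix n n ℤ_[p] →+* Matrix n n ℂ := ι.mapMatrix
  let c : Matrix n n ℤ_[p] →+* Matrix n n ℤ_[p][X] := (C : ℤ_[p] →+* ℤ_[p][X]).mapMatrix
  let Fp : Matrix n n ℤ_[p][X] :=
    ∑ i ∈ Finset.range p, (X : ℤ_[p][X]) ^ i • c (Z ^ i * H * Zi ^ i) + c (1 - E)
  have hev : ∀ {S : Type} [CommRing S] (f : ℤ_[p] →+* S) (x : S),
      (eval₂RingHom f x).mapMatrix Fp = ∑ i ∈ Finset.range p,
        x ^ i • f.mapMatrix (Z ^ i * H * Zi ^ i) + f.mapMatrix (1 - E) := by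
    intro S _ f x
    have hc : ∀ M : Matrix n n ℤ_[p], (eval₂RingHom f x).mapMatrix (c M) = f.mapMatrix M := by
      intro M; ext a b; simp [c]
    rw [map_add, map_sum, hc]
    congr 1
    refine Finset.sum_congr rfl fun i _ => ?_
    rw [← hc]
    ext a b
    simp
  have hd1 : eval 1 Fp.det = 1 := by
    have := RingHom.map_det (eval₂RingHom (RingHom.id ℤ_[p]) 1) Fp
    rw [hev] at this
    simp only [one_pow, one_smul, RingHom.mapMatrix_id, RingHom.id_apply, hsum, add_sub_cancel,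
      Matrix.det_one, coe_eval₂RingHom, eval₂_id] at this
    exact this
  have hd2 : eval₂ ι ζ Fp.det ≠ 0 := by
    intro h0
    obtain ⟨q, hq⟩ := cyclotomic_dvd_of_eval₂_eq_zero hι hζ h0
    rw [hq, eval_mul, eval_one_cyclotomic_prime] at hd1
    exact not_isUnit_p (IsUnit.of_mul_eq_one _ hd1)
  have hd3 := RingHom.map_det (eval₂RingHom ι ζ) Fp
  rw [hev] at hd3
  have key := twist_complex hζ (Φ Z) (Φ Zi) (Φ E) (Φ H) (Φ Y) (by rw [← map_pow, hz, map_one])
    (by rw [← map_mul, hzi, map_one]) (by rw [← map_mul, he]) (hez.map Φ)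
    (by rw [← map_mul, heh]) (by rw [← map_mul, hhe]) (hyz.map Φ) (hye.map Φ) (hyh.map Φ)
    (by
      simp only [map_mul, map_pow, map_sub, map_one] at hd3
      rw [← hd3]; exact hd2) hj
  apply hι
  rw [map_zero, ← key, ← map_pow, ← map_mul, ← map_mul]
  exact AddMonoidHom.map_trace ι _

/-- Over `ℤ_[p]`, an operator of order `p` has the same trace as its non-trivial powers, and this
trace is a rational integer. -/
theorem trace_pow_matrix {n : Type} [Fintype n] [DecidableEq n] (Z : Matrix n n ℤ_[p])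
    (hz : Z ^ p = 1) : ∃ a : ℤ, ∀ j : ℕ, ¬ p ∣ j → (Z ^ j).trace = a := by
  classical
  obtain ⟨ι, hι⟩ := exists_padicInt_embedding p
  have hζ := prim_root (p := p)
  set ζ := Complex.exp (2 * Real.pi * Complex.I / p)
  have : NeZero p := ⟨hp.out.ne_zero⟩
  let Φ : Matrix n n ℤ_[p] →+* Module.End ℂ (n → ℂ) :=
    (Matrix.toLinAlgEquiv' (R := ℂ) (n := n)).toRingEquiv.toRingHom.comp ι.mapMatrix
  have htr : ∀ M, LinearMap.trace ℂ _ (Φ M) = ι M.trace := by
    intro M
    rw [AddMonoidHom.map_trace ι M, ← Matrix.trace_toLin'_eq]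
    rfl
  obtain ⟨b, l, hl, hb⟩ := CL.Char.exists_eigenbasis_of_pow_eq_one (Φ Z)
    (Nat.cast_ne_zero.2 hp.out.ne_zero) (by rw [← map_pow, hz, map_one])
  have hpow : ∀ k i, (Φ Z ^ k) (b i) = l i ^ k • b i := by
    intro k i
    induction k with
    | zero => simp
    | succ k ih => rw [pow_succ', Module.End.mul_apply, ih, map_smul, hb, smul_smul, pow_succ]
  have hk : ∀ k, ι (Z ^ k).trace = ∑ i, l i ^ k := by
    intro k
    rw [← htr, map_pow, CL.Char.trace_eq_sum_of_eigenbasis _ b _ (hpow k)]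
  choose e he hle using fun i => hζ.eq_pow_of_pow_eq_one (hl i)
  let d : ℤ_[p][X] := ∑ i, X ^ e i - C Z.trace
  have hd : eval₂ ι ζ d = 0 := by
    have := hk 1
    simp only [pow_one] at this
    simp [d, eval₂_finset_sum, hle, this]
  obtain ⟨q, hq⟩ := cyclotomic_dvd_of_eval₂_eq_zero hι hζ hd
  have hconst : ∀ j : ℕ, ¬ p ∣ j → (Z ^ j).trace = Z.trace := by
    intro j hj
    have hj' : IsPrimitiveRoot (ζ ^ j) p :=
      hζ.pow_of_coprime j ((Nat.Prime.coprime_iff_not_dvd hp.out).2 hj).symm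
    have h0 : eval₂ ι (ζ ^ j) d = 0 := by
      rw [hq, eval₂_mul, eval₂_eq_eval_map, map_cyclotomic,
        (hj'.isRoot_cyclotomic hp.out.pos).eq_zero, zero_mul]
    apply hι
    rw [hk]
    simp only [d, eval₂_sub, eval₂_finset_sum, eval₂_X_pow, eval₂_C] at h0
    rw [← sub_eq_zero.1 h0]
    refine Finset.sum_congr rfl fun i _ => ?_
    rw [← hle, ← pow_mul, ← pow_mul, mul_comm]
  -- the trace is rational and integral
  have hint : IsIntegral ℤ (ι Z.trace) := by
    have := hk 1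
    simp only [pow_one] at this
    rw [this]
    exact IsIntegral.sum _ fun i _ => IsIntegral.of_pow hp.out.pos (by rw [hl]; exact isIntegral_one)
  have hsum : ∑ k ∈ Finset.range p, ι (Z ^ k).trace =
      (p : ℂ) * (Finset.univ.filter fun i => l i = 1).card := by
    simp only [hk]
    rw [Finset.sum_comm, Finset.card_filter, Nat.cast_sum, Finset.mul_sum]
    refine Finset.sum_congr rfl fun i _ => ?_
    split_ifs with h
    · simp [h]
    · rw [geom_sum_eq h, hl]; simp
  have hsum2 : ∑ k ∈ Finset.range p, ι (Z ^ k).trace =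
      Fintype.card n + ((p : ℂ) - 1) * ι Z.trace := by
    obtain ⟨m, hm⟩ := Nat.exists_eq_add_of_lt hp.out.pos
    have hm' : p = m + 1 := by omega
    have : ∀ k ∈ Finset.range m, ι (Z ^ (k + 1)).trace = ι Z.trace := by
      intro k hk
      rw [hconst]
      exact Nat.not_dvd_of_pos_of_lt (by omega) (by have := Finset.mem_range.1 hk; omega)
    have e1 : ∑ k ∈ Finset.range p, ι (Z ^ k).trace =
        ∑ k ∈ Finset.range (m + 1), ι (Z ^ k).trace := by rw [← hm']
    rw [e1, Finset.sum_range_succ', Finset.sum_congr rfl this]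
    have : (p : ℂ) = m + 1 := by rw [hm']; push_cast; rfl
    simp [this, add_comm]
  have hp1 : (p : ℂ) - 1 ≠ 0 := by
    rw [sub_ne_zero]; exact_mod_cast hp.out.one_lt.ne'
  have hrat : ι Z.trace = (((p * (Finset.univ.filter fun i => l i = 1).card - Fintype.card n : ℚ) /
      ((p : ℚ) - 1) : ℚ) : ℂ) := by
    push_cast
    rw [eq_div_iff hp1, ← hsum, hsum2]; ring
  rw [hrat] at hint
  have h1 := (isIntegral_algebraMap_iff (R := ℤ) (A := ℚ) (B := ℂ)
    (algebraMap ℚ ℂ).injective).1 hint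
  obtain ⟨a, ha⟩ := IsIntegrallyClosed.isIntegral_iff.1 h1
  refine ⟨a, fun j hj => ?_⟩
  rw [hconst j hj]
  apply hι
  rw [hrat, ← ha]
  simp

end CL.D1
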