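import Cfsg.Agent.Base
import Cfsg.Agent.D1.Twist
import Cfsg.Agent.D1.Transfer

/-!
# Endomorphisms of `ℤ_[p] G`-lattices modulo the relative traces from `1` to `⟨z⟩`
-/

set_option autoImplicit false
set_option linter.unusedSectionVars false

open Subgroup Module

namespace CL.D1

variable {G : Type*} [Group G] {p : ℕ} [hp : Fact p.Prime] {z : G}
variable {L : Type*} [AddCommGroup L] [Module ℤ_[p] L] (ρ : Representation ℤ_[p] G L)

theorem linHom_eq (g : G) (f : End ℤ_[p] L) : ρ.linHom ρ g f = ρ g * f * ρ g⁻¹ := rfl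

theorem rep_mul_inv (g : G) : ρ g * ρ g⁻¹ = 1 := by rw [← map_mul, mul_inv_cancel, map_one]

theorem rep_inv_mul (g : G) : ρ g⁻¹ * ρ g = 1 := by rw [← map_mul, inv_mul_cancel, map_one]

theorem linHom_fixed_iff {g : G} {f : End ℤ_[p] L} :
    ρ.linHom ρ g f = f ↔ Commute f (ρ g) := by
  rw [linHom_eq]
  constructor
  · intro h
    have := congrArg (· * ρ g) h
    simp only [mul_assoc, rep_inv_mul, mul_one] at this
    exact this.symm
  · intro h
    rw [← h.eq, mul_assoc, rep_mul_inv, mul_one]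

theorem commute_rep_inv {g : G} {f : End ℤ_[p] L} (h : Commute f (ρ g)) : Commute f (ρ g⁻¹) := by
  calc f * ρ g⁻¹ = ρ g⁻¹ * (ρ g * f * ρ g⁻¹) := by
        rw [← mul_assoc, ← mul_assoc, rep_inv_mul, one_mul]
    _ = _ := by rw [← linHom_eq, (linHom_fixed_iff ρ).2 h]

theorem commute_rep_pow {g : G} {f : End ℤ_[p] L} (h : Commute f (ρ g)) (i : ℕ) :
    Commute f (ρ (g ^ i)) := by rw [map_pow]; exact h.pow_right i

/-- The ideal of relative traces from `1` to `⟨z⟩`. -/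
noncomputable def J (z : G) : Submodule ℤ_[p] (End ℤ_[p] L) :=
  LinearMap.range (nrm p (ρ.linHom ρ) z)

theorem mem_J {f : End ℤ_[p] L} : f ∈ J ρ z ↔
    ∃ h : End ℤ_[p] L, ∑ i ∈ Finset.range p, ρ (z ^ i) * h * ρ (z ^ i)⁻¹ = f := by
  simp only [J, LinearMap.mem_range, nrm_apply, linHom_eq]

theorem mul_mem_J {a f : End ℤ_[p] L} (ha : Commute a (ρ z)) (hf : f ∈ J ρ z) :
    a * f ∈ J ρ z := by
  obtain ⟨h, rfl⟩ := (mem_J ρ).1 hf
  refine (mem_J ρ).2 ⟨a * h, ?_⟩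
  rw [Finset.mul_sum]
  refine Finset.sum_congr rfl fun i _ => ?_
  rw [← mul_assoc, ← (commute_rep_pow ρ ha i).eq]
  simp only [mul_assoc]

theorem mul_mem_J' {a f : End ℤ_[p] L} (ha : Commute a (ρ z)) (hf : f ∈ J ρ z) :
    f * a ∈ J ρ z := by
  obtain ⟨h, rfl⟩ := (mem_J ρ).1 hf
  refine (mem_J ρ).2 ⟨h * a, ?_⟩
  rw [Finset.sum_mul]
  refine Finset.sum_congr rfl fun i _ => ?_
  simp only [mul_assoc]
  rw [(commute_rep_inv ρ (commute_rep_pow ρ ha i)).eq]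

theorem smul_mem_J {f : End ℤ_[p] L} (hf : Commute f (ρ z)) : (p : ℤ_[p]) • f ∈ J ρ z :=
  ⟨f, nrm_apply_of_fixed _ ((linHom_fixed_iff ρ).2 hf)⟩

theorem pow_sub_pow_mem_J {a b : End ℤ_[p] L} (ha : Commute a (ρ z)) (hb : Commute b (ρ z))
    (h : a - b ∈ J ρ z) (m : ℕ) : a ^ m - b ^ m ∈ J ρ z := by
  induction m with
  | zero => simp
  | succ m ih =>
    have : a ^ (m + 1) - b ^ (m + 1) = a * (a ^ m - b ^ m) + (a - b) * b ^ m := by
      rw [pow_succ', pow_succ']; noncomm_ring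
    rw [this]
    exact add_mem (mul_mem_J ρ ha ih) (mul_mem_J' ρ (hb.pow_left m) h)

theorem apply_mem_of_mem_J_of_fixed {f : End ℤ_[p] L} (hf : f ∈ J ρ z) {x : L} (hx : ρ z x = x) :
    f x ∈ LinearMap.range (nrm p ρ z) := by
  obtain ⟨h, rfl⟩ := (mem_J ρ).1 hf
  refine ⟨h x, ?_⟩
  rw [nrm_apply, LinearMap.sum_apply]
  refine Finset.sum_congr rfl fun i _ => ?_
  rw [End.mul_apply, End.mul_apply,
    apply_of_mem_zpowers ρ hx (inv_mem (pow_mem (mem_zpowers z) i))]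

theorem pow_sub_mem_range (i : ℕ) (x : L) :
    ρ (z ^ i) x - x ∈ LinearMap.range (ρ z - 1) := by
  induction i with
  | zero => simp
  | succ i ih =>
    have : ρ (z ^ (i + 1)) x - x = (ρ z - 1) (ρ (z ^ i) x) + (ρ (z ^ i) x - x) := by
      rw [pow_succ', map_mul]; simp
    rw [this]
    exact add_mem ⟨_, rfl⟩ ih

theorem nrm_inv_apply (hz : z ^ p = 1) (x : L) :
    ∑ i ∈ Finset.range p, ρ (z ^ i)⁻¹ x = nrm p ρ z x := by
  rw [nrm_apply]
  have h1 : ∀ i ∈ Finset.range p, (z ^ i)⁻¹ = z ^ (p - 1 - i) * z := by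
    intro i hi
    have := Finset.mem_range.1 hi
    rw [inv_eq_iff_mul_eq_one, ← pow_succ, ← pow_add, show i + (p - 1 - i + 1) = p by omega, hz]
  rw [Finset.sum_congr rfl fun i hi => by rw [h1 i hi],
    Finset.sum_range_reflect (fun i => ρ (z ^ i * z) x) p]
  simp only [map_mul, End.mul_apply]
  rw [← nrm_apply, nrm_apply_z ρ hz, nrm_apply]

theorem apply_mem_of_mem_J_of_nrm (hz : z ^ p = 1) {f : End ℤ_[p] L} (hf : f ∈ J ρ z) {x : L}
    (hx : nrm p ρ z x = 0) : f x ∈ LinearMap.range (ρ z - 1) := by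
  obtain ⟨h, rfl⟩ := (mem_J ρ).1 hf
  have : (∑ i ∈ Finset.range p, ρ (z ^ i) * h * ρ (z ^ i)⁻¹) x =
      ∑ i ∈ Finset.range p, (ρ (z ^ i) (h (ρ (z ^ i)⁻¹ x)) - h (ρ (z ^ i)⁻¹ x)) := by
    rw [Finset.sum_sub_distrib, ← map_sum, nrm_inv_apply ρ hz, hx, map_zero, sub_zero,
      LinearMap.sum_apply]
    rfl
  rw [this]
  exact Submodule.sum_mem _ fun i _ => pow_sub_mem_range ρ i _

variable [Module.Free ℤ_[p] L] [Module.Finite ℤ_[p] L]

theorem trace_linHom (g : G) (f : End ℤ_[p] L) :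
    LinearMap.trace ℤ_[p] L (ρ.linHom ρ g f) = LinearMap.trace ℤ_[p] L f := by
  rw [linHom_eq, LinearMap.trace_mul_comm, ← mul_assoc, rep_inv_mul, one_mul]

theorem trace_eq_mat (f : End ℤ_[p] L) : LinearMap.trace ℤ_[p] L f =
    (LinearMap.toMatrixAlgEquiv (Module.finBasis ℤ_[p] L) f).trace :=
  LinearMap.trace_eq_matrix_trace ℤ_[p] (Module.finBasis ℤ_[p] L) f

theorem trace_pow_end (Z : End ℤ_[p] L) (hZ : Z ^ p = 1) :
    ∃ a : ℤ, ∀ j : ℕ, ¬ p ∣ j → LinearMap.trace ℤ_[p] L (Z ^ j) = a := by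
  obtain ⟨a, ha⟩ := trace_pow_matrix (LinearMap.toMatrixAlgEquiv (Module.finBasis ℤ_[p] L) Z)
    (by rw [← map_pow, hZ, map_one])
  exact ⟨a, fun j hj => by rw [trace_eq_mat, map_pow, ha j hj]⟩

theorem not_isUnit_trace {F r : End ℤ_[p] L} {m : ℕ} (h : F ^ m = (p : ℤ_[p]) • r) :
    ¬ IsUnit (LinearMap.trace ℤ_[p] L F) := by
  intro hu
  let e := LinearMap.toMatrixAlgEquiv (Module.finBasis ℤ_[p] L)
  let φ : ℤ_[p] →+* ZMod p := PadicInt.toZMod
  have h1 : IsNilpotent (φ.mapMatrix (e F)) := by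
    refine ⟨m, ?_⟩
    rw [← map_pow, ← map_pow, h, map_smul]
    ext a b
    simp
  have h2 := Matrix.isNilpotent_trace_of_isNilpotent h1
  rw [isNilpotent_iff_eq_zero] at h2
  have h3 := hu.map φ
  rw [trace_eq_mat, AddMonoidHom.map_trace φ] at h3
  exact h3.ne_zero h2

/-- The twisting lemma: an idempotent that is a relative trace has trace zero on `p`-singular
elements. -/
theorem trace_eq_zero_of_mem_J [Finite G] (hz : z ^ p = 1) {ε : End ℤ_[p] L}
    (hε : IsIdempotentElem ε) (hJ : ε ∈ J ρ z) (hεz : Commute ε (ρ z)) {y : G}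
    (hy : Commute z y) (hyp : ¬ p ∣ orderOf y) (hεy : Commute ε (ρ y)) {j : ℕ} (hj : ¬ p ∣ j) :
    LinearMap.trace ℤ_[p] L (ρ (z ^ j * y) * ε) = 0 := by
  obtain ⟨h, hh⟩ := hJ
  set π := ρ.linHom ρ
  set m := orderOf y
  have hm : IsUnit (m : ℤ_[p]) := by
    rw [PadicInt.isUnit_iff, PadicInt.norm_natCast_eq_one_iff]
    exact ((Nat.Prime.coprime_iff_not_dvd hp.out).2 hyp)
  obtain ⟨u, hu⟩ := hm.exists_left_inv
  have hym : y ^ m = 1 := pow_orderOf_eq_one y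
  -- average `h` over `⟨y⟩`
  let h1 : End ℤ_[p] L := u • ∑ k ∈ Finset.range m, π (y ^ k) h
  have hπc : ∀ k, Commute (π (y ^ k)) (π z) := fun k => ((hy.symm.pow_left k).map π)
  have hh1 : nrm p π z h1 = ε := by
    simp only [h1, map_smul, map_sum]
    have : ∀ k, nrm p π z (π (y ^ k) h) = ε := by
      intro k
      rw [← End.mul_apply, ← (commute_nrm π (hπc k)).eq, End.mul_apply, hh]
      exact (linHom_fixed_iff ρ).2 (commute_rep_pow ρ hεy k)
    simp only [this, Finset.sum_const, Finset.card_range]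
    rw [← Nat.cast_smul_eq_nsmul ℤ_[p], smul_smul, hu, one_smul]
  have hy1 : Commute h1 (ρ y) := by
    rw [← linHom_fixed_iff]
    change π y h1 = h1
    simp only [h1, map_smul, map_sum]
    congr 1
    have e2 := Finset.sum_range_succ (fun i => π (y ^ i) h) m
    have e3 := Finset.sum_range_succ' (fun i => π (y ^ i) h) m
    rw [e3] at e2
    simp only [hym, pow_zero] at e2
    rw [← add_right_cancel e2]
    simp only [pow_succ', map_mul, End.mul_apply]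
  have hsum : ∑ i ∈ Finset.range p, ρ z ^ i * (ε * h1 * ε) * ρ z⁻¹ ^ i = ε := by
    have : ε = ε * nrm p π z h1 * ε := by rw [hh1, hε.eq, hε.eq]
    conv_rhs => rw [this, nrm_apply, Finset.mul_sum, Finset.sum_mul]
    refine Finset.sum_congr rfl fun i _ => ?_
    rw [linHom_eq, ← map_pow, ← map_pow, inv_pow, ← mul_assoc, ← mul_assoc, ← mul_assoc,
      ← mul_assoc, (commute_rep_pow ρ hεz i).eq, mul_assoc _ ε (ρ _),
      (commute_rep_inv ρ (commute_rep_pow ρ hεz i)).eq]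
    simp only [mul_assoc]
  let e := LinearMap.toMatrixAlgEquiv (Module.finBasis ℤ_[p] L)
  have key := twist_matrix (e (ρ z)) (e (ρ z⁻¹)) (e ε) (e (ε * h1 * ε)) (e (ρ y))
    (by rw [← map_pow, ← map_pow, hz, map_one, map_one])
    (by rw [← map_mul, rep_inv_mul, map_one]) (by rw [← map_mul, hε.eq]) (hεz.map e)
    (by rw [← map_mul, ← mul_assoc, ← mul_assoc, hε.eq])
    (by rw [← map_mul, mul_assoc, hε.eq]) ((hy.symm.map ρ).map e) (hεy.symm.map e)
    (((hεy.symm.mul_right hy1.symm).mul_right hεy.symm).map e)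
    (by
      conv_rhs => rw [← hsum]
      simp only [map_sum, map_mul, map_pow]) hj
  rw [trace_eq_mat, map_mul, map_mul, map_mul, map_pow, map_pow]
  exact key

/-- no non-trivial idempotent endomorphisms -/
def Indec : Prop :=
  ∀ e : End ℤ_[p] L, IsIdempotentElem e → (∀ g, Commute e (ρ g)) → e = 0 ∨ e = 1

variable [Finite G]

theorem commute_trN {φ : End ℤ_[p] L} (hφ : Commute φ (ρ z)) {g : G} (hg : Commute z g) :
    Commute (trN (ρ.linHom ρ) z φ) (ρ g) :=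
  (linHom_fixed_iff ρ).1 (apply_trN _ ((linHom_fixed_iff ρ).2 hφ) hg)

theorem dichotomy (hz : z ^ p = 1) (hρ : Indec ρ) {φ : End ℤ_[p] L} (hφ : Commute φ (ρ z)) :
    ∃ m, 0 < m ∧ ((¬ IsUnit (LinearMap.trace ℤ_[p] L (trG (ρ.linHom ρ) z φ)) ∧
      trN (ρ.linHom ρ) z φ ^ m ∈ J ρ z) ∨ 1 - trN (ρ.linHom ρ) z φ ^ m ∈ J ρ z) := by
  have hφ' := (linHom_fixed_iff ρ).2 hφ
  set F := trG (ρ.linHom ρ) z φ
  set φ1 := trN (ρ.linHom ρ) z φ
  have hF : ∀ g, Commute F (ρ g) := fun g => (linHom_fixed_iff ρ).1 (apply_trG _ hφ' g)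
  obtain ⟨m, η, r, s, hm, hη, h1, -, h3, h4⟩ := exists_fitting (p := p) F
  have hd : F ^ m - φ1 ^ m ∈ J ρ z :=
    pow_sub_pow_mem_J ρ (hF z) (commute_trN ρ hφ (Commute.refl z)) (trG_sub_trN_mem _ hz hφ') m
  have hr : (p : ℤ_[p]) • r ∈ J ρ z := smul_mem_J ρ (h4 _ (hF z).symm).symm
  refine ⟨m, hm, ?_⟩
  rcases hρ η hη (fun g => (h3 _ (hF g).symm).symm) with h | h
  · left
    have h5 : F ^ m = (p : ℤ_[p]) • (-r) := by
      rw [smul_neg, eq_neg_iff_add_eq_zero, ← h1, h]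
    refine ⟨not_isUnit_trace h5, ?_⟩
    have : φ1 ^ m = -((p : ℤ_[p]) • r) - (F ^ m - φ1 ^ m) := by rw [h5, smul_neg]; abel
    rw [this]
    exact sub_mem (neg_mem hr) hd
  · right
    have : 1 - φ1 ^ m = (p : ℤ_[p]) • r + (F ^ m - φ1 ^ m) := by rw [← h, h1]; abel
    rw [this]
    exact add_mem hr hd

theorem isUnit_natCast_of_not_dvd {m : ℕ} (h : ¬ p ∣ m) : IsUnit (m : ℤ_[p]) := by
  rw [PadicInt.isUnit_iff, PadicInt.norm_natCast_eq_one_iff]
  exact ((Nat.Prime.coprime_iff_not_dvd hp.out).2 h)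

/-- An idempotent commuting with the normalizer of `⟨z⟩` is `0` or `1` modulo `J`. -/
theorem idem_dichotomy (hz : orderOf z = p) (hP : ¬ p ^ 2 ∣ Nat.card G) (hρ : Indec ρ)
    {κ : End ℤ_[p] L} (hκ : IsIdempotentElem κ)
    (hc : ∀ n : G, n⁻¹ * z * n ∈ zpowers z → Commute κ (ρ n)) : κ ∈ J ρ z ∨ 1 - κ ∈ J ρ z := by
  have hzp : z ^ p = 1 := hz ▸ pow_orderOf_eq_one z
  have hκz : Commute κ (ρ z) := hc z (by simp)
  obtain ⟨m, hm, h⟩ := dichotomy ρ hzp hρ hκz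
  have h1 : trN (ρ.linHom ρ) z κ = ((fixQ z).card : ℤ_[p]) • κ := by
    rw [trN, Finset.sum_congr rfl fun q hq => (linHom_fixed_iff ρ).2
      (hc _ (conj_mem_of_smul_eq (mem_fixQ.1 hq))), Finset.sum_const, Nat.cast_smul_eq_nsmul]
  rw [h1, smul_pow, hκ.pow_eq hm.ne'] at h
  obtain ⟨u, hu⟩ := ((isUnit_natCast_of_not_dvd (not_dvd_card_fixQ hz hP)).pow m).exists_left_inv
  rcases h with ⟨-, h⟩ | h
  · left
    have := (J ρ z).smul_mem u h
    rwa [smul_smul, hu, one_smul] at this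
  · right
    have := mul_mem_J ρ ((Commute.one_left _).sub_left hκz) h
    rwa [mul_sub, mul_one, mul_smul_comm, sub_mul, one_mul, hκ.eq, sub_self, smul_zero,
      sub_zero] at this

/-- From an endomorphism of unit trace with image in an `N(P)`-invariant submodule `W` we get an
idempotent with image in `W` which is `1` modulo `J`. -/
theorem exists_idem_range_le (hz : orderOf z = p) (hP : ¬ p ^ 2 ∣ Nat.card G) (hρ : Indec ρ)
    {φ : End ℤ_[p] L} (hφ : Commute φ (ρ z)) (hu : IsUnit (LinearMap.trace ℤ_[p] L φ))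
    (W : Submodule ℤ_[p] L) (hφW : ∀ x, φ x ∈ W)
    (hW : ∀ n : G, n⁻¹ * z * n ∈ zpowers z → ∀ x ∈ W, ρ n x ∈ W) :
    ∃ η : End ℤ_[p] L, IsIdempotentElem η ∧ Commute η (ρ z) ∧ (∀ x, η x ∈ W) ∧
      1 - η ∈ J ρ z := by
  have hzp : z ^ p = 1 := hz ▸ pow_orderOf_eq_one z
  obtain ⟨m, hm, h⟩ := dichotomy ρ hzp hρ hφ
  have htr : IsUnit (LinearMap.trace ℤ_[p] L (trG (ρ.linHom ρ) z φ)) := by
    let _ := Fintype.ofFinite (G ⧸ zpowers z)
    simp only [trG, map_sum, trace_linHom, Finset.sum_const, Finset.card_univ, nsmul_eq_mul]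
    refine IsUnit.mul (isUnit_natCast_of_not_dvd ?_) hu
    rw [← Nat.card_eq_fintype_card]
    exact not_dvd_index_zpowers hz hP
  replace h := h.resolve_left fun h => h.1 htr
  set φ1 := trN (ρ.linHom ρ) z φ
  have hφ1 : Commute φ1 (ρ z) := commute_trN ρ hφ (Commute.refl z)
  have hφ1W : ∀ x, φ1 x ∈ W := by
    intro x
    simp only [φ1, trN, LinearMap.sum_apply]
    exact Submodule.sum_mem _ fun q hq => hW _ (conj_mem_of_smul_eq (mem_fixQ.1 hq)) _ (hφW _)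
  obtain ⟨k, η, r, s, hk, hη, h1, h2, h3, h4⟩ := exists_fitting (p := p) φ1
  have hηz : Commute η (ρ z) := (h3 _ hφ1.symm).symm
  refine ⟨η, hη, hηz, fun x => by rw [h2]; exact hφ1W _, ?_⟩
  have e1 : η - φ1 ^ k ∈ J ρ z := by
    rw [h1, add_sub_cancel_left]; exact smul_mem_J ρ (h4 _ hφ1.symm).symm
  have e2 := pow_sub_pow_mem_J ρ hηz (hφ1.pow_left k) e1 m
  have e3 := pow_sub_pow_mem_J ρ (Commute.one_left _) (hφ1.pow_left m) h k
  rw [hη.pow_eq hm.ne', ← pow_mul] at e2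
  rw [one_pow, ← pow_mul, mul_comm] at e3
  have := sub_mem e3 e2
  rwa [sub_sub_sub_cancel_right] at this

end CL.D1
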