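import Cfsg.Agent.Base
import Cfsg.Agent.D1.Stable
import Cfsg.Agent.Auto.APadicInt_600a32

/-!
# Linear algebra on `ℤ_[p]`-lattices with an operator of order `p`
-/

set_option autoImplicit false
set_option linter.unusedSectionVars false

open Subgroup Module Polynomial

namespace CL.D1

variable {p : ℕ} [hp : Fact p.Prime]

theorem sum_zmod_eq_sum_range {M : Type*} [AddCommMonoid M] (f : ℕ → M) :
    ∑ a : ZMod p, f a.val = ∑ i ∈ Finset.range p, f i := by
  refine Finset.sum_nbij' (fun a => a.val) (fun i => (i : ZMod p)) ?_ ?_ ?_ ?_ ?_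
  · intro a _; exact Finset.mem_range.2 (ZMod.val_lt a)
  · intro a _; exact Finset.mem_univ _
  · intro a _; exact ZMod.natCast_zmod_val a
  · intro a ha; exact ZMod.val_cast_of_lt (Finset.mem_range.1 ha)
  · intro a _; rfl

theorem exists_primitiveRoot_padicInt : ∃ ω : ℤ_[p], IsPrimitiveRoot ω (p - 1) := by
  obtain ⟨g, hg⟩ := IsCyclic.exists_ofOrder_eq_natCard (α := (ZMod p)ˣ)
  rw [Nat.card_eq_fintype_card, ZMod.card_units] at hg
  have hp1 : 0 < p - 1 := by have := hp.out.two_le; omega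
  have hker : ∀ x : ℤ_[p], x ∈ IsLocalRing.maximalIdeal ℤ_[p] ↔ PadicInt.toZMod x = 0 := by
    intro x; rw [← PadicInt.ker_toZMod, RingHom.mem_ker]
  have hg0 : PadicInt.toZMod (((g : ZMod p).val : ℕ) : ℤ_[p]) = g := by simp
  obtain ⟨ω, h1, h2⟩ := HenselianRing.is_henselian (I := IsLocalRing.maximalIdeal ℤ_[p])
    (X ^ (p - 1) - C 1 : ℤ_[p][X]) (monic_X_pow_sub_C 1 hp1.ne') (((g : ZMod p).val : ℕ) : ℤ_[p])
    (by
      rw [hker]
      simp only [eval_sub, eval_pow, eval_X, eval_one, map_sub, map_pow, hg0, map_one]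
      rw [ZMod.pow_card_sub_one_eq_one g.ne_zero, sub_self])
    (by
      apply IsUnit.map
      by_contra h
      have := (hker _).1 ((IsLocalRing.mem_maximalIdeal _).2 h)
      simp only [derivative_sub, derivative_X_pow, derivative_C, sub_zero, eval_mul, eval_natCast,
        eval_pow, eval_X, map_mul, map_natCast, map_pow, hg0, mul_eq_zero] at this
      rcases this with h | h
      · rw [ZMod.natCast_eq_zero_iff] at h
        exact Nat.not_dvd_of_pos_of_lt hp1 (by omega) h
      · exact pow_ne_zero _ g.ne_zero h)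
  have h3 : PadicInt.toZMod ω = g := by
    have := (hker _).1 h2
    rwa [map_sub, hg0, sub_eq_zero] at this
  refine ⟨ω, ?_, fun l hl => ?_⟩
  · have := h1.eq_zero
    simp only [eval_sub, eval_pow, eval_X, eval_C] at this
    exact sub_eq_zero.1 this
  · rw [← hg, orderOf_dvd_iff_pow_eq_one]
    apply Units.ext
    rw [Units.val_pow_eq_pow_val, ← h3, ← map_pow, hl, map_one, Units.val_one]

variable {M : Type*} [AddCommGroup M] [Module ℤ_[p] M]

theorem pow_apply_mem {T : End ℤ_[p] M} {V : Submodule ℤ_[p] M} (hV : ∀ v ∈ V, T v ∈ V) (i : ℕ) :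
    ∀ v ∈ V, (T ^ i) v ∈ V := by
  induction i with
  | zero => simp
  | succ i ih => intro v hv; rw [pow_succ', End.mul_apply]; exact hV _ (ih v hv)

theorem exists_eigen (T : End ℤ_[p] M) {x : M} (hx : (T ^ (p - 1)) x = x)
    (U : Submodule ℤ_[p] M) (hxU : x ∉ U) : ∃ (y : M) (c : ℤ_[p]), y ∉ U ∧ T y = c • y ∧
      ∀ V : Submodule ℤ_[p] M, (∀ v ∈ V, T v ∈ V) → x ∈ V → y ∈ V := by
  obtain ⟨ω, hω⟩ := exists_primitiveRoot_padicInt (p := p)
  have hp1 : 0 < p - 1 := by have := hp.out.two_le; omega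
  set n := p - 1
  let y : ℕ → M := fun k => ∑ i ∈ Finset.range n, (ω ^ k) ^ i • (T ^ i) x
  have hsum : ∑ k ∈ Finset.range n, y k = (n : ℤ_[p]) • x := by
    simp only [y]
    rw [Finset.sum_comm, Finset.sum_eq_single 0]
    · simp [Nat.cast_smul_eq_nsmul]
    · intro i hi hi0
      rw [← Finset.sum_smul]
      have h1 : ω ^ i ≠ 1 := hω.pow_ne_one_of_pos_of_lt hi0 (Finset.mem_range.1 hi)
      have h2 : (∑ k ∈ Finset.range n, (ω ^ i) ^ k) * (ω ^ i - 1) = 0 := by
        rw [geom_sum_mul, ← pow_mul, mul_comm, pow_mul, hω.pow_eq_one, one_pow, sub_self]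
      have h3 := (mul_eq_zero.1 h2).resolve_right (sub_ne_zero.2 h1)
      simp only [← pow_mul, mul_comm i] at h3
      simp only [← pow_mul, h3, zero_smul]
    · intro h; exact absurd (Finset.mem_range.2 hp1) h
  have hex : ∃ k, y k ∉ U := by
    by_contra h
    push Not at h
    obtain ⟨u, hu⟩ := (isUnit_natCast_of_not_dvd (p := p) (m := n)
      (Nat.not_dvd_of_pos_of_lt hp1 (by omega))).exists_left_inv
    have := U.smul_mem u (hsum ▸ U.sum_mem fun k _ => h k)
    rw [smul_smul, hu, one_smul] at this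
    exact hxU this
  obtain ⟨k, hk⟩ := hex
  have hk1 : (ω ^ k) ^ n = 1 := by rw [← pow_mul, mul_comm, pow_mul, hω.pow_eq_one, one_pow]
  refine ⟨y k, (ω ^ k) ^ (n - 1), hk, ?_, fun V hV hx => V.sum_mem fun i _ =>
    V.smul_mem _ (pow_apply_mem hV i x hx)⟩
  have e2 := Finset.sum_range_succ (fun i => (ω ^ k) ^ i • (T ^ i) x) n
  have e3 := Finset.sum_range_succ' (fun i => (ω ^ k) ^ i • (T ^ i) x) n
  rw [e3] at e2
  simp only [hk1, hx, pow_zero, End.one_apply] at e2
  have e4 : (ω ^ k) • T (y k) = y k := by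
    conv_rhs => simp only [y]; rw [← add_right_cancel e2]
    simp only [y, map_sum, map_smul, Finset.smul_sum, smul_smul, pow_succ', End.mul_apply]
  conv_rhs => rw [← e4, smul_smul, ← pow_succ, Nat.sub_add_cancel hp1, hk1, one_smul]

theorem end_pow_sub_mem_range (T : End ℤ_[p] M) (i : ℕ) (x : M) :
    (T ^ i) x - x ∈ LinearMap.range (T - 1) := by
  refine ⟨(∑ k ∈ Finset.range i, T ^ k) x, ?_⟩
  rw [← End.mul_apply, mul_geom_sum]; rfl

theorem nakayama_sub_one {T : End ℤ_[p] M} (hT : T ^ p = 1) {U V : Submodule ℤ_[p] M}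
    (hV : V.FG) (hTU : ∀ v ∈ U, T v ∈ U) (hTV : ∀ v ∈ V, T v ∈ V)
    (h : V ≤ U ⊔ V.map (T - 1)) : V ≤ U := by
  have hU : ∀ v ∈ U, (T - 1) v ∈ U := fun v hv => U.sub_mem (hTU v hv) hv
  have h1 : ∀ k, V ≤ U ⊔ V.map ((T - 1) ^ k) := by
    intro k
    induction k with
    | zero => intro v hv; exact Submodule.mem_sup_right ⟨v, hv, rfl⟩
    | succ k ih =>
      refine ih.trans (sup_le le_sup_left ?_)
      rintro _ ⟨v, hv, rfl⟩
      obtain ⟨u, hu, _, ⟨w, hw, rfl⟩, rfl⟩ := Submodule.mem_sup.1 (h hv)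
      rw [map_add]
      exact Submodule.add_mem_sup (pow_apply_mem hU k u hu) ⟨w, hw, by rw [pow_succ]; rfl⟩
  refine Submodule.le_of_le_smul_of_le_jacobson_bot (I := IsLocalRing.maximalIdeal ℤ_[p]) hV
    (IsLocalRing.maximalIdeal_le_jacobson _) ((h1 p).trans (sup_le_sup_left ?_ _))
  rintro _ ⟨v, hv, rfl⟩
  obtain ⟨r, hr⟩ := exists_add_pow_prime_eq hp.out (X : ℤ_[p][X]) (-1)
  obtain ⟨q, hq⟩ : ∃ q : ℤ_[p][X], (X - 1) ^ p = X ^ p - 1 + C (p : ℤ_[p]) * q := by
    rcases hp.out.eq_two_or_odd' with h2 | h2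
    · refine ⟨1 - X, ?_⟩
      subst h2
      simp only [Nat.cast_ofNat, map_ofNat]; ring
    · refine ⟨-X * r, ?_⟩
      rw [sub_eq_add_neg, hr, h2.neg_one_pow, map_natCast]; ring
  have h2 := congrArg (aeval T) hq
  simp only [map_pow, map_sub, aeval_X, map_one, map_add, map_mul, aeval_C, hT, sub_self,
    zero_add] at h2
  rw [h2, End.mul_apply, algebraMap_end_apply]
  refine Submodule.smul_mem_smul (by
    rw [PadicInt.maximalIdeal_eq_span_p]; exact Ideal.mem_span_singleton_self _) ?_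
  rw [aeval_eq_sum_range, LinearMap.sum_apply]
  exact V.sum_mem fun i _ => V.smul_mem _ (pow_apply_mem hTV i v hv)

variable [Module.Free ℤ_[p] M] [Module.Finite ℤ_[p] M]

theorem p_smul_injective {x y : M} (h : (p : ℤ_[p]) • x = (p : ℤ_[p]) • y) : x = y :=
  smul_right_injective M (Nat.cast_ne_zero.2 hp.out.ne_zero) h

theorem exists_functional (f : End ℤ_[p] M) {v : M} (hv : ∀ y, f v ≠ (p : ℤ_[p]) • f y) :
    ∃ l : M →ₗ[ℤ_[p]] ℤ_[p], (∀ x, f x = 0 → l x = 0) ∧ IsUnit (l v) := by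
  let b := Module.finBasis ℤ_[p] (LinearMap.range f)
  have : ∃ i, IsUnit (b.repr (f.rangeRestrict v) i) := by
    by_contra h
    push Not at h
    have h2 : ∀ i, ∃ d, b.repr (f.rangeRestrict v) i = p * d := fun i => by
      have := (IsLocalRing.mem_maximalIdeal _).2 (h i)
      rwa [PadicInt.maximalIdeal_eq_span_p, Ideal.mem_span_singleton] at this
    choose d hd using h2
    obtain ⟨y, hy⟩ := (∑ i, d i • b i).2
    apply hv y
    have h3 := congrArg Subtype.val (b.sum_repr (f.rangeRestrict v))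
    rw [hy]
    simp only [hd, mul_smul, ← Finset.smul_sum] at h3
    exact h3.symm
  obtain ⟨i, hi⟩ := this
  refine ⟨(b.coord i).comp f.rangeRestrict, fun x hx => ?_, hi⟩
  have : f.rangeRestrict x = 0 := Subtype.ext hx
  rw [LinearMap.comp_apply, this, map_zero]

theorem trace_idem_le {η : End ℤ_[p] M} (hη : IsIdempotentElem η) {W : Submodule ℤ_[p] M}
    (hW : ∀ x, η x ∈ W) : ∃ r : ℕ, r ≤ finrank ℤ_[p] W ∧ LinearMap.trace ℤ_[p] M η = r := by
  refine ⟨finrank ℤ_[p] (LinearMap.range η), Submodule.finrank_mono ?_, ?_⟩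
  · rintro _ ⟨x, rfl⟩; exact hW x
  · exact (LinearMap.IsIdempotentElem.isProj_range _ hη).trace

variable {G : Type*} [Group G] {z : G} (ρ : Representation ℤ_[p] G M)

theorem trace_nrm_mul {a : ℤ} {η : End ℤ_[p] M}
    (ha : ∀ j : ℕ, ¬ p ∣ j → LinearMap.trace ℤ_[p] M (ρ (z ^ j) * η) = a) :
    LinearMap.trace ℤ_[p] M (nrm p ρ z * η) = LinearMap.trace ℤ_[p] M η + (p - 1 : ℕ) * a := by
  obtain ⟨m, hm⟩ := Nat.exists_eq_add_of_lt hp.out.pos
  have hm' : p = m + 1 := by omega
  have e1 : nrm p ρ z = ∑ k ∈ Finset.range (m + 1), ρ (z ^ k) := by rw [← hm']; rfl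
  have : ∀ k ∈ Finset.range m, LinearMap.trace ℤ_[p] M (ρ (z ^ (k + 1)) * η) = a := by
    intro k hk
    exact ha _ (Nat.not_dvd_of_pos_of_lt (by omega) (by have := Finset.mem_range.1 hk; omega))
  rw [e1, Finset.sum_mul, map_sum, Finset.sum_range_succ', Finset.sum_congr rfl this,
    show p - 1 = m by omega]
  simp [add_comm]

theorem herbrand (hz : orderOf z = p) {a : ℤ}
    (ha : ∀ j : ℕ, ¬ p ∣ j → LinearMap.trace ℤ_[p] M (ρ (z ^ j)) = a) :
    ((∀ x, ρ z x = x → x ∈ LinearMap.range (nrm p ρ z)) → a ≤ 0) ∧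
    ((∀ x, nrm p ρ z x = 0 → x ∈ LinearMap.range (ρ z - 1)) → 0 ≤ a) := by
  classical
  have hzp : z ^ p = 1 := hz ▸ pow_orderOf_eq_one z
  set N := nrm p ρ z with hN
  set A := LinearMap.range N
  have hAfix : ∀ x : A, ρ z x = x := by
    rintro ⟨_, x, rfl⟩; exact apply_nrm ρ hzp x
  have htr : (p : ℤ) * finrank ℤ_[p] A = finrank ℤ_[p] M + (p - 1 : ℕ) * a := by
    have h1 := trace_nrm_mul ρ (η := 1) (a := a) (z := z) (by simpa using ha)
    rw [mul_one, LinearMap.trace_one, ← hN] at h1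
    have h2 : N = A.subtype ∘ₗ N.rangeRestrict := rfl
    have h3 : N.rangeRestrict ∘ₗ A.subtype = (p : ℤ_[p]) • LinearMap.id := by
      ext x
      exact nrm_apply_of_fixed ρ (hAfix x)
    rw [h2, LinearMap.trace_comp_comm', h3, map_smul, LinearMap.trace_id, smul_eq_mul] at h1
    exact_mod_cast h1
  obtain ⟨s, hs⟩ := N.rangeRestrict.exists_rightInverse_of_surjective
    (LinearMap.range_rangeRestrict N)
  have hs' : ∀ x : A, N (s x) = x := fun x => congrArg Subtype.val (LinearMap.congr_fun hs x)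
  let Θ : (ZMod p → A) →ₗ[ℤ_[p]] M := ∑ i : ZMod p, ρ (zp z i) ∘ₗ s ∘ₗ LinearMap.proj i
  have hΘ : ∀ u, Θ u = ∑ i : ZMod p, ρ (zp z i) (s (u i)) := fun u => by
    simp [Θ, LinearMap.sum_apply]
  let σ : End ℤ_[p] (ZMod p → A) := LinearMap.funLeft ℤ_[p] A (fun i => i - 1)
  have hσ : ∀ u i, σ u i = u (i - 1) := fun u i => rfl
  have hσk : ∀ (k : ℕ) u i, (σ ^ k) u i = u (i - k) := by
    intro k
    induction k with
    | zero => simp
    | succ k ih =>
      intro u i
      rw [pow_succ', End.mul_apply, hσ, ih]; congr 1; push_cast; ring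
  have hσp : σ ^ p = 1 := by
    refine LinearMap.ext fun u => funext fun i => ?_
    rw [hσk]; simp
  have hΘσ : ∀ u, Θ (σ u) = ρ z (Θ u) := by
    intro u
    rw [hΘ, hΘ, map_sum]
    refine (Fintype.sum_equiv (Equiv.addRight 1) _ _ fun i => ?_).symm
    simp only [Equiv.coe_addRight]
    rw [hσ, add_sub_cancel_right, add_comm, zp_add hz, zp_one hz, map_mul,
      End.mul_apply]
  have hΘc : ∀ x : A, Θ (fun _ => x) = x := by
    intro x
    rw [hΘ, ← hs' x, nrm_apply]
    exact sum_zmod_eq_sum_range fun i => ρ (z ^ i) (s x)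
  have hΘs : ∀ x : A, Θ (Pi.single 0 x) = s x := by
    intro x
    rw [hΘ, Finset.sum_eq_single 0]
    · simp [zp_zero]
    · intro i _ hi; simp [hi]
    · simp
  have hfin : finrank ℤ_[p] (ZMod p → A) = p * finrank ℤ_[p] A := by
    rw [Module.finrank_pi_fintype]; simp
  have hp1 : (0 : ℤ) < (p - 1 : ℕ) := by have := hp.out.two_le; omega
  constructor
  · intro h0
    have hker : LinearMap.ker Θ ≤ ⊥ := by
      refine nakayama_sub_one hσp (IsNoetherian.noetherian _) (by simp) ?_ ?_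
      · intro u hu
        rw [LinearMap.mem_ker] at hu ⊢
        rw [hΘσ, hu, map_zero]
      · intro u hu
        rw [LinearMap.mem_ker] at hu
        have h1 : ∑ i, u i = 0 := by
          have := congrArg N hu
          rw [hΘ, map_sum, map_zero] at this
          apply Subtype.ext
          rw [Submodule.coe_sum, Submodule.coe_zero, ← this]
          refine Finset.sum_congr rfl fun i _ => ?_
          have hc : Commute (ρ (zp z i)) N := commute_nrm ρ ((commute_zp (Commute.refl z) i).map ρ)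
          rw [← hs', ← End.mul_apply, ← hc.eq, End.mul_apply]
          exact (apply_of_mem_zpowers ρ (apply_nrm ρ hzp _) (zp_mem i)).symm
        have h2 : u ∈ LinearMap.range (σ - 1) := by
          have : u = ∑ i : ZMod p, ((σ ^ i.val) (Pi.single 0 (u i)) - Pi.single 0 (u i)) := by
            rw [Finset.sum_sub_distrib]
            have e1 : ∑ i : ZMod p, (Pi.single 0 (u i) : ZMod p → A) = 0 := by
              have := map_sum (LinearMap.single ℤ_[p] (fun _ : ZMod p => A) 0) u Finset.univ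
              rw [h1, map_zero] at this
              exact this.symm
            rw [e1, sub_zero]
            funext j
            rw [Finset.sum_apply, Finset.sum_eq_single j]
            · simp [hσk]
            · intro i _ hi
              rw [hσk, ZMod.natCast_zmod_val, Pi.single_eq_of_ne (sub_ne_zero.2 hi.symm)]
            · simp
          rw [this]
          exact Submodule.sum_mem _ fun i _ => end_pow_sub_mem_range σ _ _
        obtain ⟨u', hu'⟩ := h2
        have h3 : ρ z (Θ u') = Θ u' := by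
          rw [← hΘσ, ← sub_eq_zero, ← map_sub, ← hu, ← hu']; rfl
        refine Submodule.mem_sup_right ⟨u' - fun _ => ⟨Θ u', h0 _ h3⟩, ?_, ?_⟩
        · change Θ _ = 0
          rw [map_sub, hΘc, sub_self]
        · rw [map_sub, hu', sub_eq_self]
          funext i
          simp [hσ]
    have := LinearMap.finrank_le_finrank_of_injective (f := Θ)
      (LinearMap.ker_eq_bot.1 (le_bot_iff.1 hker))
    rw [hfin] at this
    have h5 : (p : ℤ) * finrank ℤ_[p] A ≤ finrank ℤ_[p] M := by exact_mod_cast this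
    by_contra h6
    nlinarith
  · intro h1
    have hrange : ⊤ ≤ LinearMap.range Θ := by
      refine nakayama_sub_one (T := ρ z) (by rw [← map_pow, hzp, map_one])
        (IsNoetherian.noetherian _) ?_ (by simp) ?_
      · rintro _ ⟨u, rfl⟩; exact ⟨σ u, hΘσ u⟩
      · intro x _
        obtain ⟨y, hy⟩ := h1 (x - s (N.rangeRestrict x)) (by rw [map_sub, hs']; exact sub_self _)
        refine Submodule.mem_sup.2 ⟨s (N.rangeRestrict x), ⟨_, hΘs _⟩, _, ⟨y, trivial, rfl⟩, ?_⟩
        rw [hy]; abel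
    have := LinearMap.finrank_le_finrank_of_surjective (f := Θ)
      (LinearMap.range_eq_top.1 (top_le_iff.1 hrange))
    rw [hfin] at this
    have h5 : (finrank ℤ_[p] M : ℤ) ≤ (p : ℤ) * finrank ℤ_[p] A := by exact_mod_cast this
    by_contra h6
    nlinarith

end CL.D1
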