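import Cfsg.Agent.Base
import Cfsg.Agent.D1.Herbrand

/-!
# The character of an indecomposable `ℤ_[p] G`-lattice on `p`-singular elements
-/

set_option autoImplicit false
set_option linter.unusedSectionVars false

open Subgroup Module

namespace CL.D1

variable {G : Type*} [Group G] {p : ℕ} [hp : Fact p.Prime] {z : G}
variable {L : Type*} [AddCommGroup L] [Module ℤ_[p] L] (ρ : Representation ℤ_[p] G L)

theorem conj_mem_zpowers_symm (hz : orderOf z = p) {n : G} (h : n⁻¹ * z * n ∈ zpowers z) :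
    n * z * n⁻¹ ∈ zpowers z := by
  have : n⁻¹ ∈ normalizer ((zpowers z : Subgroup G) : Set G) :=
    (mem_normalizer_zpowers_iff hz).2 (by simpa using h)
  exact (mem_normalizer_zpowers_iff hz).1 (inv_mem_iff.1 this)

theorem conj_mem_zpowers_symm' (hz : orderOf z = p) {n : G} (h : n * z * n⁻¹ ∈ zpowers z) :
    n⁻¹ * z * n ∈ zpowers z := by
  simpa using conj_mem_zpowers_symm hz (n := n⁻¹) (by simpa using h)

theorem conj_mem_zpowers_of_mem (hz : orderOf z = p) {n : G} (h : n * z * n⁻¹ ∈ zpowers z)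
    {u : G} (hu : u ∈ zpowers z) : n * u * n⁻¹ ∈ zpowers z :=
  (mem_normalizer_iff.1 ((mem_normalizer_zpowers_iff hz).2 h) u).1 hu

theorem commute_conj_of_normalizes (hz : orderOf z = p) {n c : G} (h : n * z * n⁻¹ ∈ zpowers z)
    (hc : Commute z c) : Commute z (n⁻¹ * c * n) := by
  obtain ⟨a, ha⟩ := exists_zp_of_mem hz h
  have h1 := (commute_zp hc a).eq
  rw [ha] at h1
  calc z * (n⁻¹ * c * n) = n⁻¹ * (n * z * n⁻¹ * c) * n := by group
    _ = _ := by rw [h1]; group

theorem orderOf_conj' (n c : G) : orderOf (n⁻¹ * c * n) = orderOf c :=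
  (SemiconjBy.orderOf_eq n⁻¹ (by simp [SemiconjBy])).symm

theorem commute_nrm_of_normalizes (hz : orderOf z = p) {n : G} (h : n * z * n⁻¹ ∈ zpowers z) :
    Commute (ρ n) (nrm p ρ z) := by
  obtain ⟨u, -, hu⟩ := exists_unit_of_conj_mem hz h
  have e : nrm p ρ z = ∑ a : ZMod p, ρ (zp z a) :=
    (sum_zmod_eq_sum_range fun i => ρ (z ^ i)).symm
  rw [Commute, SemiconjBy, e, Finset.mul_sum, Finset.sum_mul]
  refine Fintype.sum_equiv (Units.mulLeft u) _ _ fun a => ?_
  rw [Units.mulLeft_apply, ← conj_zp hz hu, ← map_mul, ← map_mul]; simp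

variable [Module.Free ℤ_[p] L] [Module.Finite ℤ_[p] L] [Finite G]

theorem case_fixed (hz : orderOf z = p) (hP : ¬ p ^ 2 ∣ Nat.card G) (hρ : Indec ρ) {a : ℤ}
    (ha : LinearMap.trace ℤ_[p] L (ρ z) = a) {x : L} (hx : ∀ c, Commute z c → ρ c x = x)
    (hxN : x ∉ LinearMap.range (nrm p ρ z)) : a ≤ 1 := by
  have hzp : z ^ p = 1 := hz ▸ pow_orderOf_eq_one z
  obtain ⟨n₀, hn1, hn2, -, hn4⟩ := exists_gen_normalizer hz hP
  obtain ⟨x', c, h1, h2, h3⟩ := exists_eigen (ρ n₀) (x := x) (by rw [← map_pow]; exact hx _ hn2)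
    _ hxN
  let V : Submodule ℤ_[p] L :=
    { carrier := {v | ∀ c, Commute z c → ρ c v = v}
      add_mem' := fun {a b} ha hb c hc => by rw [map_add, ha c hc, hb c hc]
      zero_mem' := fun c _ => map_zero _
      smul_mem' := fun r a ha c hc => by rw [map_smul, ha c hc] }
  have hx' : ∀ c, Commute z c → ρ c x' = x' := h3 V (fun v hv c hc => by
    have := hv _ (commute_conj_of_normalizes hz hn1 hc)
    conv_rhs => rw [← this]
    rw [← End.mul_apply, ← End.mul_apply, ← map_mul, ← map_mul]; congr 2; group) hx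
  have hzx := hx' z (Commute.refl z)
  obtain ⟨l, hl1, hl2⟩ := exists_functional (nrm p ρ z) (v := x') (fun y hy => by
    rw [nrm_apply_of_fixed ρ hzx] at hy
    exact h1 ⟨y, (p_smul_injective hy).symm⟩)
  have hlz : ∀ y, l (ρ z y) = l y := fun y => by
    rw [← sub_eq_zero, ← map_sub]
    exact hl1 _ (by rw [map_sub, nrm_apply_z ρ hzp, sub_self])
  obtain ⟨η, hη, hηz, hηW, hηJ⟩ := exists_idem_range_le ρ hz hP hρ (φ := l.smulRight x')
    (by ext y; simp [hlz, hzx]) (by rwa [LinearMap.trace_smulRight])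
    (Submodule.span ℤ_[p] {x'})
    (fun y => Submodule.smul_mem _ _ (Submodule.mem_span_singleton_self _)) (by
      intro n hn v hv
      obtain ⟨r, rfl⟩ := Submodule.mem_span_singleton.1 hv
      obtain ⟨i, c', hc', rfl⟩ := hn4 n (conj_mem_zpowers_symm hz hn)
      rw [map_smul, map_mul, End.mul_apply, hx' c' hc', map_pow]
      refine Submodule.smul_mem _ _ (pow_apply_mem ?_ i _ (Submodule.mem_span_singleton_self _))
      intro w hw
      obtain ⟨r, rfl⟩ := Submodule.mem_span_singleton.1 hw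
      rw [map_smul, h2]
      exact Submodule.smul_mem _ _ (Submodule.smul_mem _ _ (Submodule.mem_span_singleton_self _)))
  have h4 := trace_eq_zero_of_mem_J ρ hzp hη.one_sub hηJ ((Commute.one_left _).sub_left hηz)
    (Commute.one_right z) (by rw [orderOf_one]; exact hp.out.one_lt.ne' ∘ Nat.dvd_one.1)
    (by rw [map_one]; exact Commute.one_right _) (j := 1) (hp.out.one_lt.ne' ∘ Nat.dvd_one.1)
  have h5 : ρ z * η = η := by
    ext y
    obtain ⟨r, hr⟩ := Submodule.mem_span_singleton.1 (hηW y)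
    rw [End.mul_apply, ← hr, map_smul, hzx]
  rw [pow_one, mul_one, mul_sub, mul_one, h5, map_sub, ha, sub_eq_zero] at h4
  obtain ⟨r, hr1, hr2⟩ := trace_idem_le hη hηW
  have hr3 : r ≤ 1 := hr1.trans ((finrank_span_le_card ({x'} : Set L)).trans (by simp))
  have : a = r := by rw [hr2] at h4; exact_mod_cast h4
  omega

theorem case_nrm (hz : orderOf z = p) (hP : ¬ p ^ 2 ∣ Nat.card G) (hρ : Indec ρ) {a : ℤ}
    (ha : ∀ j : ℕ, ¬ p ∣ j → LinearMap.trace ℤ_[p] L (ρ (z ^ j)) = a) {w : L}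
    (hw : ∀ y, Commute z y → ¬ p ∣ orderOf y → ρ y w = w) (hwN : nrm p ρ z w = 0)
    (hwr : w ∉ LinearMap.range (ρ z - 1)) : -1 ≤ a := by
  have hzp : z ^ p = 1 := hz ▸ pow_orderOf_eq_one z
  obtain ⟨n₀, hn1, hn2, hn3, hn4⟩ := exists_gen_normalizer hz hP
  obtain ⟨x, c, h1, h2, h3⟩ := exists_eigen (ρ n₀) (x := w)
    (by rw [← map_pow]; exact hw _ hn2 hn3) _ hwr
  let V : Submodule ℤ_[p] L :=
    { carrier := {v | nrm p ρ z v = 0 ∧ ∀ y, Commute z y → ¬ p ∣ orderOf y → ρ y v = v}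
      add_mem' := fun {a b} ha hb => ⟨by rw [map_add, ha.1, hb.1, add_zero],
        fun c hc hc' => by rw [map_add, ha.2 c hc hc', hb.2 c hc hc']⟩
      zero_mem' := ⟨map_zero _, fun c _ _ => map_zero _⟩
      smul_mem' := fun r a ha => ⟨by rw [map_smul, ha.1, smul_zero],
        fun c hc hc' => by rw [map_smul, ha.2 c hc hc']⟩ }
  obtain ⟨hxN, hx⟩ : nrm p ρ z x = 0 ∧ ∀ y, Commute z y → ¬ p ∣ orderOf y → ρ y x = x :=
    h3 V (fun v hv => ⟨by
      rw [← End.mul_apply, ← (commute_nrm_of_normalizes ρ hz hn1).eq, End.mul_apply, hv.1,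
        map_zero], fun c hc hc' => by
      have := hv.2 _ (commute_conj_of_normalizes hz hn1 hc) (by rwa [orderOf_conj'])
      conv_rhs => rw [← this]
      rw [← End.mul_apply, ← End.mul_apply, ← map_mul, ← map_mul]; congr 2; group⟩) ⟨hwN, hw⟩
  set Z := ρ z with hZ
  have hZp : Z ^ p = 1 := by rw [hZ, ← map_pow, hzp, map_one]
  let s : ℕ → End ℤ_[p] L := fun k => ∑ i ∈ Finset.range k, Z ^ i
  have hN : nrm p ρ z = s p := by simp only [nrm, s, map_pow, hZ]
  have hs : ∀ k, s (k + 1) = Z * s k + 1 := fun k => by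
    simp only [s, Finset.sum_range_succ', pow_succ', Finset.mul_sum, pow_zero]
  let v : L := ∑ j ∈ Finset.range p, (Z ^ j) (s (p - j) x)
  have hv : (Z - 1) v = (p : ℤ_[p]) • x := by
    have : ∀ j ∈ Finset.range p, (Z - 1) ((Z ^ j) (s (p - j) x)) = x - (Z ^ j) x := by
      intro j hj
      have hj' := Finset.mem_range.1 hj
      have hc : Commute (Z - 1) (Z ^ j) :=
        ((Commute.refl Z).pow_right j).sub_left (Commute.one_left _)
      rw [← End.mul_apply, hc.eq, End.mul_apply, ← End.mul_apply (Z - 1), mul_geom_sum,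
        LinearMap.sub_apply, map_sub, ← End.mul_apply, ← pow_add, Nat.add_sub_cancel' hj'.le, hZp]
      rfl
    rw [map_sum, Finset.sum_congr rfl this, Finset.sum_sub_distrib, ← LinearMap.sum_apply]
    change _ - s p x = _
    rw [← hN, hxN]
    simp [Nat.cast_smul_eq_nsmul]
  obtain ⟨l, hl1, hl2⟩ := exists_functional (Z - 1) (v := v) (fun y hy => by
    rw [hv] at hy
    exact h1 ⟨y, (p_smul_injective hy).symm⟩)
  have hlN : ∀ y, l (s p y) = 0 := fun y => hl1 _ (by
    rw [← hN, LinearMap.sub_apply, apply_nrm ρ hzp]; exact sub_self _)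
  let φ : End ℤ_[p] L := ∑ j ∈ Finset.range p, (l ∘ₗ (Z ^ j)).smulRight (s (p - j) x)
  have hφ : ∀ y, φ y = ∑ j ∈ Finset.range p, l ((Z ^ j) y) • s (p - j) x := fun y => by
    simp [φ, LinearMap.sum_apply]
  have hφz : Commute φ Z := by
    ext y
    rw [End.mul_apply, End.mul_apply, hφ, hφ]
    let g : ℕ → L := fun j => l ((Z ^ j) y) • s (p + 1 - j) x
    have e2 := Finset.sum_range_succ g p
    have e3 := Finset.sum_range_succ' g p
    have e4 : g 0 = g p := by
      simp only [g, hZp, pow_zero, Nat.sub_zero, Nat.add_sub_cancel_left]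
      rw [hs, LinearMap.add_apply, End.mul_apply, ← hN, hxN]
      simp [s]
    rw [e3, e4] at e2
    have e5 := add_right_cancel e2
    have e6 : ∑ j ∈ Finset.range p, g j =
        Z (∑ j ∈ Finset.range p, l ((Z ^ j) y) • s (p - j) x) + l (s p y) • x := by
      simp only [s, LinearMap.sum_apply (Finset.range p), map_sum l, Finset.sum_smul]
      rw [map_sum, ← Finset.sum_add_distrib]
      refine Finset.sum_congr rfl fun j hj => ?_
      have hj' := Finset.mem_range.1 hj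
      simp only [g]
      rw [show p + 1 - j = p - j + 1 by omega, hs, map_smul, LinearMap.add_apply, smul_add]
      rfl
    rw [e6, hlN, zero_smul, add_zero] at e5
    rw [← e5]
    refine Finset.sum_congr rfl fun j _ => ?_
    simp only [g, pow_succ, End.mul_apply, Nat.add_sub_add_right]
  have htr : LinearMap.trace ℤ_[p] L φ = l v := by
    simp only [φ, v, map_sum, LinearMap.trace_smulRight, LinearMap.comp_apply]
  let W : Submodule ℤ_[p] L := Submodule.span ℤ_[p] (Set.range fun i : Fin (p - 1) => (Z ^ (i : ℕ)) x)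
  have hWp : ∀ i, (Z ^ i) x ∈ W := by
    have h0 : ∀ i, i < p - 1 → (Z ^ i) x ∈ W := fun i hi => Submodule.subset_span ⟨⟨i, hi⟩, rfl⟩
    have h1 : (Z ^ (p - 1)) x ∈ W := by
      have : s p x = s (p - 1) x + (Z ^ (p - 1)) x := by
        have e : s p = s (p - 1 + 1) := by rw [Nat.sub_add_cancel hp.out.pos]
        rw [e]
        simp only [s, Finset.sum_range_succ, LinearMap.add_apply]
      rw [← hN, hxN, eq_comm, add_eq_zero_iff_neg_eq] at this
      rw [← this, LinearMap.sum_apply]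
      exact neg_mem (W.sum_mem fun i hi => h0 i (Finset.mem_range.1 hi))
    intro i
    rw [← Nat.mod_add_div i p, pow_add, pow_mul, hZp, one_pow, mul_one]
    have := Nat.mod_lt i hp.out.pos
    rcases Nat.lt_or_ge (i % p) (p - 1) with h | h
    · exact h0 _ h
    · rw [show i % p = p - 1 by omega]; exact h1
  have hWu : ∀ u ∈ zpowers z, ρ u x ∈ W := fun u hu => by
    obtain ⟨b, rfl⟩ := exists_zp_of_mem hz hu
    rw [zp, map_pow]; exact hWp _
  have hWind : ∀ (T : End ℤ_[p] L) (U : Submodule ℤ_[p] L), (∀ i, T ((Z ^ i) x) ∈ U) →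
      ∀ y ∈ W, T y ∈ U := fun T U h y hy =>
    (Submodule.span_le (p := U.comap T)).2 (by rintro _ ⟨i, rfl⟩; exact h i) hy
  have hWn : ∀ n : G, n * z * n⁻¹ ∈ zpowers z → (∃ r : ℤ_[p], ρ n x = r • x) →
      ∀ y ∈ W, ρ n y ∈ W := by
    rintro n hn ⟨r, hr⟩
    refine hWind _ _ fun i => ?_
    have : ρ n ((Z ^ i) x) = ρ (n * z ^ i * n⁻¹) (ρ n x) := by
      rw [hZ, ← map_pow, ← End.mul_apply, ← End.mul_apply, ← map_mul, ← map_mul]; congr 2; group
    rw [this, hr, map_smul]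
    exact W.smul_mem _ (hWu _ (conj_mem_zpowers_of_mem hz hn (pow_mem (mem_zpowers z) i)))
  obtain ⟨η, hη, hηz, hηW, hηJ⟩ := exists_idem_range_le ρ hz hP hρ hφz (htr ▸ hl2) W
    (fun y => by
      rw [hφ]
      refine W.sum_mem fun j _ => W.smul_mem _ ?_
      rw [LinearMap.sum_apply]
      exact W.sum_mem fun i _ => hWp i) (by
      intro n hn u hu
      obtain ⟨i, c', hc', rfl⟩ := hn4 n (conj_mem_zpowers_symm hz hn)
      obtain ⟨b, y, hy1, hy2, rfl⟩ := exists_eq_zp_mul hz hP hc'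
      rw [map_mul, map_mul, End.mul_apply, End.mul_apply, map_pow]
      refine pow_apply_mem (hWn n₀ hn1 ⟨c, h2⟩) i _ ?_
      refine hWind _ _ (fun k => ?_) _ (hWn y (by rw [← hy1.eq]; simp) ⟨1, by
        rw [hx y hy1 hy2, one_smul]⟩ u hu)
      rw [hZ, ← map_pow, ← End.mul_apply, ← map_mul]
      exact hWu _ (mul_mem (zp_mem b) (pow_mem (mem_zpowers z) k)))
  have h4 : ∀ j : ℕ, ¬ p ∣ j → LinearMap.trace ℤ_[p] L (ρ (z ^ j) * η) = a := by
    intro j hj
    have := trace_eq_zero_of_mem_J ρ hzp hη.one_sub hηJ ((Commute.one_left _).sub_left hηz)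
      (Commute.one_right z) (by rw [orderOf_one]; exact hp.out.one_lt.ne' ∘ Nat.dvd_one.1)
      (by rw [map_one]; exact Commute.one_right _) hj
    rw [mul_one, mul_sub, mul_one, map_sub, ha j hj, sub_eq_zero] at this
    exact this.symm
  have h5 := trace_nrm_mul ρ h4
  have h6 : nrm p ρ z * η = 0 := by
    ext y
    have := hWind (nrm p ρ z) ⊥ (fun i => by
      rw [← End.mul_apply, ← (commute_nrm ρ ((Commute.refl Z).pow_left i)).eq, End.mul_apply, hxN,
        map_zero]; exact Submodule.zero_mem _) _ (hηW y)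
    simpa using this
  obtain ⟨r, hr1, hr2⟩ := trace_idem_le hη hηW
  have hr3 : r ≤ p - 1 := hr1.trans ((finrank_range_le_card _).trans (by simp))
  rw [h6, map_zero, hr2] at h5
  have h7 : (0 : ℤ) = r + (p - 1 : ℕ) * a := by exact_mod_cast h5
  have hp1 : (0 : ℤ) < (p - 1 : ℕ) := by have := hp.out.two_le; omega
  have h8 : (r : ℤ) ≤ (p - 1 : ℕ) := by exact_mod_cast hr3
  by_contra h9
  nlinarith

/-- The character of an indecomposable lattice on which `K` has a non-projective fixed part is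
constant, equal to `1` or `-1`, on the `p`-singular elements. -/
theorem lattice_theorem (hz : orderOf z = p) (hP : ¬ p ^ 2 ∣ Nat.card G) (hρ : Indec ρ)
    (K : Subgroup G) [Fintype K] (hK : ∀ y, y ∈ K ↔ Commute z y ∧ ¬ p ∣ orderOf y) {j₀ : ℕ}
    (hj₀ : ¬ p ∣ j₀) (hne : ∑ y : K, LinearMap.trace ℤ_[p] L (ρ (z ^ j₀ * y)) ≠ 0) :
    ∃ δ : ℤ, (δ = 1 ∨ δ = -1) ∧ ∀ j : ℕ, ¬ p ∣ j → ∀ y ∈ K,
      LinearMap.trace ℤ_[p] L (ρ (z ^ j * y)) = δ := by
  have hzp : z ^ p = 1 := hz ▸ pow_orderOf_eq_one z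
  have hcK : ¬ p ∣ Fintype.card K := fun h => by
    obtain ⟨y, hy⟩ := exists_prime_orderOf_dvd_card p h
    exact ((hK y).1 y.2).2 (by rw [orderOf_coe, hy])
  obtain ⟨u, hu⟩ := (isUnit_natCast_of_not_dvd hcK).exists_left_inv
  let κ : End ℤ_[p] L := u • ∑ y : K, ρ y
  have hκ1 : ∀ y ∈ K, ρ y * κ = κ := fun y hy => by
    simp only [κ, mul_smul_comm, Finset.mul_sum, ← map_mul]
    congr 1
    exact Fintype.sum_equiv (Equiv.mulLeft (⟨y, hy⟩ : K)) _ _ fun _ => rfl
  have hκ : IsIdempotentElem κ := by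
    change (u • ∑ y : K, ρ y) * κ = κ
    rw [smul_mul_assoc, Finset.sum_mul, Finset.sum_congr rfl fun (y : K) _ => hκ1 y y.2,
      Finset.sum_const, Finset.card_univ, ← Nat.cast_smul_eq_nsmul ℤ_[p], smul_smul, hu, one_smul]
  have hκn : ∀ n : G, n⁻¹ * z * n ∈ zpowers z → Commute κ (ρ n) := by
    intro n hn
    have h1 : ∀ n : G, n * z * n⁻¹ ∈ zpowers z → ∀ y ∈ K, n⁻¹ * y * n ∈ K := fun n hn y hy =>
      (hK _).2 ⟨commute_conj_of_normalizes hz hn ((hK y).1 hy).1,
        by rw [orderOf_conj']; exact ((hK y).1 hy).2⟩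
    let e : K ≃ K :=
      { toFun := fun y => ⟨n⁻¹ * y * n, h1 n (conj_mem_zpowers_symm hz hn) y y.2⟩
        invFun := fun y => ⟨n⁻¹⁻¹ * y * n⁻¹, h1 n⁻¹ (by simpa using hn) y y.2⟩
        left_inv := fun y => Subtype.ext (by simp [mul_assoc])
        right_inv := fun y => Subtype.ext (by simp [mul_assoc]) }
    refine Commute.smul_left ?_ u
    rw [Commute, SemiconjBy, Finset.sum_mul, Finset.mul_sum]
    refine Fintype.sum_equiv e _ _ fun y => ?_
    rw [← map_mul, ← map_mul]; congr 1; simp [e, mul_assoc]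
  have hκc : ∀ c, Commute z c → Commute κ (ρ c) := fun c hc =>
    hκn c (by rw [mul_assoc, hc.eq]; simp)
  have hκz := hκc z (Commute.refl z)
  have h1p : ¬ p ∣ orderOf (1 : G) := by rw [orderOf_one]; exact hp.out.one_lt.ne' ∘ Nat.dvd_one.1
  have hJ : 1 - κ ∈ J ρ z := by
    refine (idem_dichotomy ρ hz hP hρ hκ hκn).resolve_left fun h => hne ?_
    have := trace_eq_zero_of_mem_J ρ hzp hκ h hκz (Commute.one_right z) h1p
      (by rw [map_one]; exact Commute.one_right _) hj₀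
    simp only [κ, mul_one, mul_smul_comm, Finset.mul_sum, ← map_mul, map_smul, map_sum,
      smul_eq_mul] at this
    rw [← Finset.mul_sum] at this
    exact (mul_eq_zero.1 this).resolve_left (left_ne_zero_of_mul_eq_one hu)
  have hconst : ∀ j : ℕ, ¬ p ∣ j → ∀ y ∈ K, LinearMap.trace ℤ_[p] L (ρ (z ^ j * y)) =
      LinearMap.trace ℤ_[p] L (ρ (z ^ j) * κ) := by
    intro j hj y hy
    obtain ⟨hy1, hy2⟩ := (hK y).1 hy
    have := trace_eq_zero_of_mem_J ρ hzp hκ.one_sub hJ ((Commute.one_left _).sub_left hκz) hy1 hy2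
      ((Commute.one_left _).sub_left (hκc y hy1)) hj
    rwa [mul_sub, mul_one, map_sub, sub_eq_zero, map_mul ρ _ y, mul_assoc, hκ1 y hy,
      ← map_mul] at this
  obtain ⟨a, ha⟩ := trace_pow_end (ρ z) (by rw [← map_pow, hzp, map_one])
  simp only [← map_pow] at ha
  have hall : ∀ j : ℕ, ¬ p ∣ j → ∀ y ∈ K, LinearMap.trace ℤ_[p] L (ρ (z ^ j * y)) = a := by
    intro j hj y hy
    rw [hconst j hj y hy, ← hconst j hj 1 K.one_mem, mul_one, ha j hj]
  refine ⟨a, ?_, hall⟩
  have ha0 : a ≠ 0 := by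
    rintro rfl
    exact hne (Finset.sum_eq_zero fun y _ => by rw [hall j₀ hj₀ y y.2, Int.cast_zero])
  obtain ⟨hb1, hb2⟩ := herbrand ρ hz ha
  have hκfix : ∀ x, ∀ y ∈ K, ρ y (κ x) = κ x := fun x y hy => by rw [← End.mul_apply, hκ1 y hy]
  rcases lt_or_gt_of_ne ha0 with h | h
  · right
    by_contra h'
    refine absurd (hb2 fun x hx => ?_) (not_le.2 h)
    by_contra hxr
    have h2 : κ x ∉ LinearMap.range (ρ z - 1) := fun h2 => hxr (by
      have := add_mem h2 (apply_mem_of_mem_J_of_nrm ρ hzp hJ hx)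
      simpa using this)
    have := case_nrm ρ hz hP hρ ha (w := κ x) (fun y hy1 hy2 => hκfix x y ((hK y).2 ⟨hy1, hy2⟩))
      (by rw [← End.mul_apply, ← (commute_nrm ρ hκz).eq, End.mul_apply, hx, map_zero]) h2
    omega
  · left
    by_contra h'
    refine absurd (hb1 fun x hx => ?_) (not_le.2 h)
    by_contra hxr
    have h2 : κ x ∉ LinearMap.range (nrm p ρ z) := fun h2 => hxr (by
      have := add_mem h2 (apply_mem_of_mem_J_of_fixed ρ hJ hx)
      simpa using this)
    have hzκ : ρ z (κ x) = κ x := by rw [← End.mul_apply, ← hκz.eq, End.mul_apply, hx]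
    have := case_fixed ρ hz hP hρ (a := a) (by
      simpa using ha 1 (hp.out.one_lt.ne' ∘ Nat.dvd_one.1)) (x := κ x) (fun c hc => by
        obtain ⟨b, y, hy1, hy2, rfl⟩ := exists_eq_zp_mul hz hP hc
        rw [map_mul, End.mul_apply, hκfix x y ((hK y).2 ⟨hy1, hy2⟩),
          apply_of_mem_zpowers ρ hzκ (zp_mem b)]) h2
    omega

end CL.D1
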