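import Cfsg.Agent.Base
import Cfsg.Agent.Char.Orth
import Cfsg.Agent.Char.Galois
import Cfsg.Agent.Char.Burnside
import Cfsg.Agent.D1.Lattice
import Cfsg.Agent.Auto.ACL_D1_Indec_35c5df
import Cfsg.Agent.Auto.ACL_Char_irrMapEquiv_19e151

/-!
# From lattices to characters

A Galois-stable set `S` of irreducible characters carries an indecomposable `ℤ_p G`-lattice all
of whose complex constituents lie in `S`; `lattice_theorem` then produces a character, supported
on `S`, which is constantly `± 1` on the `p`-singular elements.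
-/

set_option autoImplicit false

open Cfsg CL.Char Module

namespace CL.D1

universe u

variable {p : ℕ} [hp : Fact p.Prime]

section Lattice

variable {G : Type*} [Group G] [Fintype G]

theorem sub_scalar {L : Type*} [AddCommGroup L] [Module ℤ_[p] L] (ρ : Representation ℤ_[p] G L)
    (c : G → ℤ_[p]) (N : ℤ_[p]) (W : Submodule ℤ_[p] L) (hW : ∀ g, W ≤ W.comap (ρ g))
    (h : ∀ x ∈ W, ∑ g, c g • ρ g x = N • x) (x : W) :
    ∑ g, c g • ρ.subrepresentation W hW g x = N • x := by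
  apply Subtype.ext
  rw [Submodule.coe_sum, Submodule.coe_smul, ← h x x.2]
  rfl

theorem finrank_range_lt {L : Type*} [AddCommGroup L] [Module ℤ_[p] L] [Module.Free ℤ_[p] L]
    [Module.Finite ℤ_[p] L] {e : End ℤ_[p] L} (he : IsIdempotentElem e) (h1 : e ≠ 1) :
    finrank ℤ_[p] (LinearMap.range e) < finrank ℤ_[p] L := by
  have hc : IsCompl (LinearMap.range e) (LinearMap.ker e) := LinearMap.IsIdempotentElem.isCompl he
  have h2 := (Submodule.prodEquivOfIsCompl _ _ hc).finrank_eq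
  rw [Module.finrank_prod] at h2
  have h3 : Nontrivial (LinearMap.ker e) := by
    rw [Submodule.nontrivial_iff_ne_bot]
    intro h0
    apply h1
    ext x
    have : x - e x ∈ LinearMap.ker e := by
      rw [LinearMap.mem_ker, map_sub, ← Module.End.mul_apply, he.eq, sub_self]
    rw [h0, Submodule.mem_bot, sub_eq_zero] at this
    exact this.symm
  have h4 : 0 < finrank ℤ_[p] (LinearMap.ker e) := Module.finrank_pos
  omega

theorem of_indec (c : G → ℤ_[p]) (N : ℤ_[p]) (Q : Prop)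
    (hQ : ∀ (L : Type u) [AddCommGroup L] [Module ℤ_[p] L] [Module.Free ℤ_[p] L]
      [Module.Finite ℤ_[p] L] [Nontrivial L] (ρ : Representation ℤ_[p] G L), Indec ρ →
      (∀ x, ∑ g, c g • ρ g x = N • x) → Q)
    (n : ℕ) : ∀ (L : Type u) [AddCommGroup L] [Module ℤ_[p] L] [Module.Free ℤ_[p] L]
      [Module.Finite ℤ_[p] L] [Nontrivial L] (ρ : Representation ℤ_[p] G L),
      finrank ℤ_[p] L = n → (∀ x, ∑ g, c g • ρ g x = N • x) → Q := by
  induction n using Nat.strong_induction_on with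
  | _ n ih =>
  intro L _ _ _ _ _ ρ hn h
  by_cases hi : Indec ρ
  · exact hQ L ρ hi h
  · simp only [Indec, not_forall, not_or] at hi
    obtain ⟨e, he, hc, h0, h1⟩ := hi
    have hW : ∀ g, LinearMap.range e ≤ (LinearMap.range e).comap (ρ g) := by
      rintro g _ ⟨x, rfl⟩
      exact ⟨ρ g x, by rw [← Module.End.mul_apply, (hc g).eq, Module.End.mul_apply]⟩
    have : Nontrivial (LinearMap.range e) := by
      rw [Submodule.nontrivial_iff_ne_bot]
      exact fun h2 => h0 (LinearMap.range_eq_bot.mp h2)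
    exact ih _ (hn ▸ finrank_range_lt he h1) (LinearMap.range e) (ρ.subrepresentation _ hW) rfl
      (sub_scalar ρ c N _ hW fun x _ => h x)

omit [Fintype G] in
theorem isCharacter_trace (ι : ℤ_[p] →+* ℂ) {L : Type*} [AddCommGroup L] [Module ℤ_[p] L]
    [Module.Free ℤ_[p] L] [Module.Finite ℤ_[p] L] (ρ : Representation ℤ_[p] G L) :
    IsCharacter G (fun g => ι (LinearMap.trace ℤ_[p] L (ρ g))) := by
  let b := Module.finBasis ℤ_[p] L
  let σ : Representation ℂ G (Fin (finrank ℤ_[p] L) → ℂ) :=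
    (Matrix.toLinAlgEquiv' (R := ℂ) (n := Fin (finrank ℤ_[p] L))).toMonoidHom.comp
      ((ι.mapMatrix (m := Fin (finrank ℤ_[p] L))).toMonoidHom.comp
        ((LinearMap.toMatrixAlgEquiv b).toMonoidHom.comp ρ))
  refine ⟨_, σ, funext fun g => ?_⟩
  rw [trace_eq_mat, AddMonoidHom.map_trace ι]
  exact Matrix.trace_toLin'_eq _

/-- the right regular representation on functions -/
def regRep (R : Type*) [CommRing R] (G : Type*) [Group G] : Representation R G (G → R) where
  toFun g := LinearMap.funLeft R R (· * g)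
  map_one' := by ext f x; simp
  map_mul' g h := by ext f x; simp [LinearMap.funLeft_apply, mul_assoc]

omit [Fintype G] in
theorem regRep_apply {R : Type*} [CommRing R] (g : G) (f : G → R) (x : G) :
    regRep R G g f x = f (x * g) := rfl

end Lattice

variable {G : Type u} [Group G] [Finite G]

theorem exists_int_classFun (S : Finset (IrrCharacter G))
    (hSτ : ∀ τ : ℂ ≃+* ℂ, ∀ χ ∈ S, irrMapEquiv G τ χ ∈ S) :
    ∃ c : G → ℤ, ∀ g, (c g : ℂ) = ∑ χ ∈ S, (χ : G → ℂ) 1 * (χ : G → ℂ) g := by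
  have : ∀ g : G, ∃ n : ℤ, ∑ χ ∈ S, (χ : G → ℂ) 1 * (χ : G → ℂ) g = n := fun g => by
    refine exists_int_of_forall_ringEquiv (IsIntegral.sum _ fun χ _ =>
      (char_isIntegral (irr_isCharacter χ.2) 1).mul (char_isIntegral (irr_isCharacter χ.2) g))
      fun τ => ?_
    rw [map_sum]
    refine Finset.sum_bij (fun χ _ => irrMapEquiv G τ χ) (fun χ h => hSτ τ χ h)
      (fun a _ b _ h => (irrMapEquiv G τ).injective h) (fun χ h => ?_) (fun χ _ => ?_)
    · refine ⟨irrMapEquiv G τ.symm χ, hSτ _ χ h, Subtype.ext (funext fun g => ?_)⟩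
      simp [irrMapEquiv_apply]
    · rw [map_mul, irrMapEquiv_apply, irrMapEquiv_apply]
  choose c hc using this
  exact ⟨c, fun g => (hc g).symm⟩

omit [Finite G] in
open scoped Classical in
theorem conv_irr [Fintype G] (S : Finset (IrrCharacter G)) (φ : IrrCharacter G) (h : G) :
    ∑ g, (∑ χ ∈ S, (χ : G → ℂ) 1 * (χ : G → ℂ) g⁻¹) * (φ : G → ℂ) (g * h) =
      if φ ∈ S then (Nat.card G : ℂ) * (φ : G → ℂ) h else 0 := by
  simp only [Finset.sum_mul, mul_assoc]
  rw [Finset.sum_comm]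
  simp only [← Finset.mul_sum]
  split_ifs with hφ
  · rw [Finset.sum_eq_single_of_mem φ hφ]
    · rw [irr_sum_mul_inv_self φ.2]
      have := irr_apply_one_ne_zero φ.2
      field_simp
    · intro χ _ hne
      rw [irr_sum_mul_inv_of_ne φ.2 χ.2 (fun h => hne (Subtype.ext h).symm), mul_zero]
  · refine Finset.sum_eq_zero fun χ hχ => ?_
    rw [irr_sum_mul_inv_of_ne φ.2 χ.2 (fun h => hφ (Subtype.ext h ▸ hχ)), mul_zero]

/-- **Theorem B.** -/
theorem bridge {z : G} (hz : orderOf z = p) (hP : ¬ p ^ 2 ∣ Nat.card G) (K : Subgroup G)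
    [Fintype K] (hK : ∀ y, y ∈ K ↔ Commute z y ∧ ¬ p ∣ orderOf y)
    (S : Finset (IrrCharacter G)) (hS : S.Nonempty)
    (hSτ : ∀ τ : ℂ ≃+* ℂ, ∀ χ ∈ S, irrMapEquiv G τ χ ∈ S)
    (hne : ∀ m : IrrCharacter G → ℕ, (∀ χ, χ ∉ S → m χ = 0) → m ≠ 0 →
      ∃ j : ℕ, ¬ p ∣ j ∧ ∑ χ, (m χ : ℂ) * ∑ y : K, (χ : G → ℂ) (z ^ j * y) ≠ 0) :
    ∃ m : IrrCharacter G → ℕ, (∀ χ, χ ∉ S → m χ = 0) ∧ ∃ δ : ℤ, (δ = 1 ∨ δ = -1) ∧
      ∀ j : ℕ, ¬ p ∣ j → ∀ y ∈ K, ∑ χ, (m χ : ℂ) * (χ : G → ℂ) (z ^ j * y) = δ := by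
  classical
  let := Fintype.ofFinite G
  obtain ⟨ι, hι⟩ := exists_padicInt_embedding p
  obtain ⟨c, hc⟩ := exists_int_classFun S hSτ
  have hcc : ∀ g h : G, c (h * g * h⁻¹) = c g := fun g h => by
    have : (c (h * g * h⁻¹) : ℂ) = c g := by
      rw [hc, hc]
      exact Finset.sum_congr rfl fun χ _ => by rw [irr_isClassFunction χ.2 g h]
    exact_mod_cast this
  -- the start lattice
  let C : End ℤ_[p] (G → ℤ_[p]) :=
    ∑ g, (c g⁻¹ : ℤ_[p]) • regRep ℤ_[p] G g - (Nat.card G : ℤ_[p]) • 1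
  have hC : ∀ f, f ∈ LinearMap.ker C ↔
      ∑ g, (c g⁻¹ : ℤ_[p]) • regRep ℤ_[p] G g f = (Nat.card G : ℤ_[p]) • f := fun f => by
    simp only [LinearMap.mem_ker, C, LinearMap.sub_apply, LinearMap.sum_apply,
      LinearMap.smul_apply, Module.End.one_apply, sub_eq_zero]
  have hW : ∀ g, LinearMap.ker C ≤ (LinearMap.ker C).comap (regRep ℤ_[p] G g) := by
    intro h f hf
    rw [Submodule.mem_comap, hC]
    rw [hC] at hf
    funext x
    have := congrFun hf (x * h)
    simp only [Finset.sum_apply, Pi.smul_apply, regRep_apply, smul_eq_mul] at this ⊢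
    rw [← this]
    refine Fintype.sum_equiv (MulAut.conj h⁻¹).toEquiv _ _ fun g => ?_
    simp only [MulEquiv.toEquiv_eq_coe, EquivLike.coe_coe, MulAut.conj_apply, inv_inv,
      mul_inv_rev]
    have h1 := hcc g⁻¹ h⁻¹
    rw [inv_inv, mul_assoc] at h1
    rw [h1]
    simp [mul_assoc]
  have hf₀ : (fun x => (c x : ℤ_[p])) ∈ LinearMap.ker C := by
    rw [hC]
    funext x
    simp only [Finset.sum_apply, Pi.smul_apply, regRep_apply, smul_eq_mul]
    apply hι
    simp only [map_sum, map_mul, map_intCast, map_natCast]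
    simp only [hc (x * _), Finset.mul_sum, hc x]
    rw [Finset.sum_comm]
    refine Finset.sum_congr rfl fun φ hφ => ?_
    have := conv_irr S φ x
    rw [if_pos hφ] at this
    rw [mul_left_comm, ← this, Finset.mul_sum]
    refine Finset.sum_congr rfl fun g _ => ?_
    rw [hc, classFun_mul_comm (irr_isClassFunction φ.2) x g]
    ring
  have hnt : Nontrivial (LinearMap.ker C) := by
    rw [Submodule.nontrivial_iff_ne_bot]
    intro h0
    rw [h0, Submodule.mem_bot] at hf₀
    have h1 : (c 1 : ℤ_[p]) = 0 := congrFun hf₀ 1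
    have h2 : (c 1 : ℂ) = 0 := by simpa using congrArg ι h1
    rw [hc] at h2
    simp only [← fun χ : IrrCharacter G => irr_cast_deg χ.2] at h2
    have h3 : ∑ χ ∈ S, deg (χ : G → ℂ) * deg (χ : G → ℂ) = 0 := by exact_mod_cast h2
    obtain ⟨χ, hχ⟩ := hS
    have h4 := Finset.sum_eq_zero_iff.mp h3 χ hχ
    have := irr_deg_pos χ.2
    simp at h4
    omega
  refine of_indec (fun g => (c g⁻¹ : ℤ_[p])) (Nat.card G : ℤ_[p]) _ ?_ _ (LinearMap.ker C)
    ((regRep ℤ_[p] G).subrepresentation _ hW) rfl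
    (sub_scalar _ _ _ _ hW fun x hx => (hC x).mp hx)
  intro L _ _ _ _ _ ρ hi hρ
  obtain ⟨m, -, hm⟩ := char_exists_eq_sum (isCharacter_trace ι ρ)
  have hm' : ∀ g, ι (LinearMap.trace ℤ_[p] L (ρ g)) = ∑ χ, (m χ : ℂ) * (χ : G → ℂ) g := fun g => by
    have := congrFun hm g
    simpa [Finset.sum_apply] using this
  have hsupp : ∀ χ, χ ∉ S → m χ = 0 := by
    have h1 : ∑ g, (c g⁻¹ : ℤ_[p]) • ρ g = (Nat.card G : ℤ_[p]) • ρ 1 := by
      ext x
      simpa [LinearMap.sum_apply] using hρ x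
    have h2 := congrArg (fun f => ι (LinearMap.trace ℤ_[p] L f)) h1
    simp only [map_sum, map_smul, smul_eq_mul, map_mul, map_intCast, map_natCast, hm', hc,
      Finset.mul_sum] at h2
    rw [Finset.sum_comm] at h2
    have h3 : ∀ φ : IrrCharacter G,
        ∑ g, (∑ χ ∈ S, (χ : G → ℂ) 1 * (χ : G → ℂ) g⁻¹) * ((m φ : ℂ) * (φ : G → ℂ) g) =
        m φ * if φ ∈ S then (Nat.card G : ℂ) * (φ : G → ℂ) 1 else 0 := fun φ => by
      rw [← conv_irr S φ 1, Finset.mul_sum]
      exact Finset.sum_congr rfl fun g _ => by rw [mul_one]; ring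
    simp only [h3] at h2
    simp only [← fun χ : IrrCharacter G => irr_cast_deg χ.2] at h2
    have h4 : ∑ φ : IrrCharacter G, m φ * (if φ ∈ S then Nat.card G * deg (φ : G → ℂ) else 0) =
        ∑ φ : IrrCharacter G, Nat.card G * (m φ * deg (φ : G → ℂ)) := by
      exact_mod_cast h2
    intro χ hχ
    have h5 := (Finset.sum_eq_sum_iff_of_le (fun φ _ => by
      split_ifs
      · exact le_of_eq (by ring)
      · simp)).mp h4 χ (Finset.mem_univ _)
    rw [if_neg hχ, mul_zero, eq_comm] at h5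
    have := irr_deg_pos χ.2
    have h6 : 0 < Nat.card G := Nat.card_pos
    simp only [mul_eq_zero] at h5
    omega
  have hm0 : m ≠ 0 := by
    intro h0
    have h1 := hm' 1
    rw [h0, map_one, LinearMap.trace_one] at h1
    simp only [map_natCast, Pi.zero_apply, Nat.cast_zero, zero_mul, Finset.sum_const_zero,
      Nat.cast_eq_zero] at h1
    exact (Module.finrank_pos (R := ℤ_[p]) (M := L)).ne' h1
  obtain ⟨j₀, hj₀, hne⟩ := hne m hsupp hm0
  obtain ⟨δ, hδ, h⟩ := lattice_theorem ρ hz hP hi K hK hj₀ (by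
    intro h0
    apply hne
    have := congrArg ι h0
    simp only [map_sum, hm', map_zero] at this
    rw [Finset.sum_comm] at this
    simpa only [Finset.mul_sum] using this)
  exact ⟨m, hsupp, δ, hδ, fun j hj y hy => by rw [← hm', h j hj y hy, map_intCast]⟩

end CL.D1
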