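import Cfsg.Agent.Base
import Cfsg.Agent.Char.Orth

/-!
# Brauer's description of the principal `p`-block when a Sylow `p`-subgroup has order `p`

`Data G p z` packages the conclusions of Brauer's theorem for an element `z` of order `p`
generating a Sylow `p`-subgroup of `G`.  Existence is `CL.D1.nonempty_data` in `D1/Main`.
-/

set_option autoImplicit false

open Cfsg CL.Char

namespace CL.D1

/-- The Gaussian period `∑_{h ∈ H} ζ^(h j)`, `ζ = exp (2 π i / p)`. -/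
noncomputable def eta {p : ℕ} [Fact p.Prime] (H : Subgroup (ZMod p)ˣ) (j : ZMod p) : ℂ :=
  ∑ᶠ h : H, ZMod.stdAddChar ((((h : (ZMod p)ˣ)) : ZMod p) * j)

/-- Brauer's theorem on groups whose order contains `p` to the first power only.
`z` generates a Sylow `p`-subgroup `P`, `C_G(P) = P × K`, `H ≅ N_G(P)/C_G(P)` has order `e`.
`A` is the set of the `e` non-exceptional characters of the principal block, with signs `δ`;
`θ a` (`a ∈ (ℤ/p)ˣ / H`) are the `t = (p-1)/e` exceptional characters, with sign `ε`. -/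
structure Data (G : Type*) [Group G] [Finite G] (p : ℕ) [Fact p.Prime] (z : G) where
  /-- the `p`-regular part of the centralizer of `z` -/
  K : Subgroup G
  mem_K : ∀ y, y ∈ K ↔ Commute z y ∧ ¬ p ∣ orderOf y
  card_K : Nat.card K * p = Nat.card (Subgroup.centralizer ({z} : Set G))
  /-- the automizer of `⟨z⟩` -/
  H : Subgroup (ZMod p)ˣ
  mem_H : ∀ h : (ZMod p)ˣ, h ∈ H ↔ IsConj z (z ^ (h : ZMod p).val)
  card_H : Nat.card H = (Subgroup.centralizer ({z} : Set G)).relIndex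
    (Subgroup.normalizer ((Subgroup.zpowers z : Subgroup G) : Set G))
  /-- the non-exceptional characters -/
  A : Finset (IrrCharacter G)
  /-- their signs -/
  δ : IrrCharacter G → ℤ
  /-- the exceptional characters -/
  θ : (ZMod p)ˣ → IrrCharacter G
  /-- their sign -/
  ε : ℤ
  card_A : A.card = Nat.card H
  one_mem_A : irrOne G ∈ A
  δ_one : δ (irrOne G) = 1
  δ_sign : ∀ χ ∈ A, δ χ = 1 ∨ δ χ = -1
  ε_sign : ε = 1 ∨ ε = -1
  θ_notMem : ∀ a, θ a ∉ A
  θ_eq_iff : ∀ a b, θ a = θ b ↔ a⁻¹ * b ∈ H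
  apply_A : ∀ χ ∈ A, ∀ g : G, p ∣ orderOf g → (χ : G → ℂ) g = δ χ
  apply_θ : ∀ (a : (ZMod p)ˣ) (j : ℕ), ¬ p ∣ j → ∀ y ∈ K,
    (θ a : G → ℂ) (z ^ j * y) = -ε * eta H (a * j)
  rel : ∀ (a : (ZMod p)ˣ) (g : G), ¬ p ∣ orderOf g →
    ∑ χ ∈ A, (δ χ : ℂ) * (χ : G → ℂ) g + ε * (θ a : G → ℂ) g = 0
  other : ∀ χ : IrrCharacter G, χ ∉ A → (∀ a, χ ≠ θ a) → ∀ j : ℕ, ¬ p ∣ j →
    ∑ᶠ y : K, (χ : G → ℂ) (z ^ j * y) = 0

end CL.D1
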