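import Cfsg.Agent.Base
import Cfsg.Agent.D1.Defs

/-!
# Fourier analysis on `ℤ/p` and Gaussian periods
-/

set_option autoImplicit false

open scoped ComplexConjugate

namespace CL.D1

variable {p : ℕ} [hp : Fact p.Prime]

/-- `ζ ^ x`, `ζ = exp (2 π i / p)` -/
noncomputable abbrev ee (x : ZMod p) : ℂ := ZMod.stdAddChar x

theorem ee_zero : ee (0 : ZMod p) = 1 := AddChar.map_zero_eq_one _

theorem ee_add (a b : ZMod p) : ee (a + b) = ee a * ee b := AddChar.map_add_eq_mul _ _ _

theorem conj_ee (a : ZMod p) : conj (ee a) = ee (-a) := (AddChar.map_neg_eq_conj _ a).symm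

theorem cast_p_ne_zero : (p : ℂ) ≠ 0 := Nat.cast_ne_zero.mpr hp.out.ne_zero

theorem sum_ee_mul (b : ZMod p) : ∑ x : ZMod p, ee (x * b) = if b = 0 then (p : ℂ) else 0 := by
  have := AddChar.sum_mulShift b (ZMod.isPrimitive_stdAddChar p)
  rw [ZMod.card] at this
  rw [this]
  split_ifs <;> simp

theorem sum_ee_mul' (b : ZMod p) : ∑ x : ZMod p, ee (b * x) = if b = 0 then (p : ℂ) else 0 := by
  simp only [mul_comm b, sum_ee_mul]

theorem ee_pow_p (a : ZMod p) : ee a ^ p = 1 := by
  rw [← AddChar.map_nsmul_eq_pow, nsmul_eq_mul, ZMod.natCast_self, zero_mul]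
  exact ee_zero

theorem isIntegral_ee (a : ZMod p) : IsIntegral ℤ (ee a) :=
  IsIntegral.of_pow hp.out.pos (by rw [ee_pow_p]; exact isIntegral_one)

theorem norm_ee (a : ZMod p) : ‖ee a‖ = 1 := by
  rw [ee, ZMod.stdAddChar_apply]; exact Circle.norm_coe _

theorem sum_eq_add_sum_units {M : Type*} [AddCommMonoid M] (f : ZMod p → M) :
    ∑ a : ZMod p, f a = f 0 + ∑ a : (ZMod p)ˣ, f a := by
  rw [← Finset.add_sum_erase _ _ (Finset.mem_univ 0)]
  congr 1
  symm
  refine Finset.sum_bij (fun a _ => (a : ZMod p)) (fun a _ => by simp) (fun a _ b _ h => Units.ext h)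
    (fun b hb => ⟨Units.mk0 b (by simpa using hb), by simp, rfl⟩) (fun _ _ => rfl)

theorem sum_units_ee {b : ZMod p} (hb : b ≠ 0) : ∑ x : (ZMod p)ˣ, ee ((x : ZMod p) * b) = -1 := by
  have := sum_ee_mul b
  rw [if_neg hb, sum_eq_add_sum_units, zero_mul, ee_zero] at this
  linear_combination this

/-- the normalised Fourier coefficients used in Brauer's theorem -/
noncomputable def four (f : ZMod p → ℂ) (b : ZMod p) : ℂ :=
  (p : ℂ)⁻¹ * ∑ a : ZMod p, f a * (1 - ee (-(b * a)))

theorem four_zero (f : ZMod p → ℂ) : four f 0 = 0 := by simp [four]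

theorem four_congr {f g : ZMod p → ℂ} (h : ∀ a, a ≠ 0 → f a = g a) (b : ZMod p) :
    four f b = four g b := by
  unfold four
  congr 1
  refine Finset.sum_congr rfl fun a _ => ?_
  by_cases ha : a = 0
  · simp [ha]
  · rw [h a ha]

theorem four_const {f : ZMod p → ℂ} {c : ℂ} (h : ∀ a, a ≠ 0 → f a = c) {b : ZMod p}
    (hb : b ≠ 0) : four f b = c := by
  rw [four_congr (g := fun _ => c) h, four, ← Finset.mul_sum, Finset.sum_sub_distrib]
  simp only [← neg_mul, sum_ee_mul', neg_eq_zero, if_neg hb, Finset.sum_const, Finset.card_univ,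
    ZMod.card, nsmul_eq_mul, mul_one, sub_zero]
  have := cast_p_ne_zero (p := p)
  field_simp

theorem four_sum {ι : Type*} (s : Finset ι) (m : ι → ℂ) (f : ι → ZMod p → ℂ) (b : ZMod p) :
    four (fun a => ∑ i ∈ s, m i * f i a) b = ∑ i ∈ s, m i * four (f i) b := by
  simp only [four, Finset.sum_mul, Finset.mul_sum]
  rw [Finset.sum_comm]
  exact Finset.sum_congr rfl fun i _ => Finset.sum_congr rfl fun a _ => by ring

theorem four_inv (f : ZMod p → ℂ) {a : ZMod p} (ha : a ≠ 0) :
    f a = -∑ b, four f b * ee (b * a) := by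
  have h1 : ∀ b, four f b * ee (b * a) =
      (p : ℂ)⁻¹ * ∑ a', f a' * (ee (b * a) - ee (b * (a - a'))) := fun b => by
    rw [four, mul_assoc, Finset.sum_mul]
    congr 1
    refine Finset.sum_congr rfl fun a' _ => ?_
    rw [show b * (a - a') = -(b * a') + b * a by ring, ee_add]
    ring
  simp only [h1, ← Finset.mul_sum]
  rw [Finset.sum_comm]
  simp only [← Finset.mul_sum, Finset.sum_sub_distrib, sum_ee_mul, if_neg ha, sub_eq_zero]
  rw [Finset.sum_eq_single a (fun b _ hb => by rw [if_neg (Ne.symm hb)]; simp) (by simp)]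
  have := cast_p_ne_zero (p := p)
  simp only [if_true]
  field_simp
  ring

theorem eq_of_four_const {f : ZMod p → ℂ} {c : ℂ} (h : ∀ b : (ZMod p)ˣ, four f b = c)
    {a : ZMod p} (ha : a ≠ 0) : f a = c := by
  rw [four_inv f ha, sum_eq_add_sum_units, four_zero]
  simp only [h, ← Finset.mul_sum, sum_units_ee ha]
  ring

theorem four_mul_left {f : ZMod p → ℂ} (h : (ZMod p)ˣ) (hf : ∀ a, f (h * a) = f a) (b : ZMod p) :
    four f (h * b) = four f b := by
  unfold four
  congr 1
  symm
  refine Fintype.sum_equiv h⁻¹.mulLeft _ _ fun a => ?_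
  simp only [Units.mulLeft_apply]
  rw [← hf (h⁻¹.1 * a), Units.mul_inv_cancel_left]
  congr 4
  rw [mul_mul_mul_comm, Units.mul_inv, one_mul]

section eta

variable (H : Subgroup (ZMod p)ˣ)

theorem eta_eq [Fintype H] (j : ZMod p) : eta H j = ∑ h : H, ee (((h : (ZMod p)ˣ) : ZMod p) * j) :=
  finsum_eq_sum_of_fintype _

open scoped Classical in
theorem eta_eq_filter (j : ZMod p) :
    eta H j = ∑ h : (ZMod p)ˣ, if h ∈ H then ee ((h : ZMod p) * j) else 0 := by
  rw [eta_eq, ← Finset.sum_filter]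
  exact (Finset.sum_subtype _ (by simp) fun h : (ZMod p)ˣ => ee ((h : ZMod p) * j)).symm

theorem eta_zero : eta H 0 = Nat.card H := by
  classical
  simp [eta_eq]

theorem eta_mul_left {h : (ZMod p)ˣ} (hh : h ∈ H) (j : ZMod p) : eta H (h * j) = eta H j := by
  classical
  rw [eta_eq, eta_eq]
  refine Fintype.sum_equiv (Equiv.mulRight ⟨h, hh⟩) _ _ fun x => ?_
  simp [mul_assoc]

theorem isIntegral_eta (j : ZMod p) : IsIntegral ℤ (eta H j) := by
  classical
  rw [eta_eq]
  exact IsIntegral.sum _ fun h _ => isIntegral_ee _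

theorem conj_eta (j : ZMod p) : conj (eta H j) = eta H (-j) := by
  classical
  simp only [eta_eq, map_sum, conj_ee, mul_neg]

theorem norm_eta_le (j : ZMod p) : ‖eta H j‖ ≤ Nat.card H := by
  classical
  rw [eta_eq]
  refine (norm_sum_le _ _).trans ?_
  simp

theorem sum_units_eta {j : ZMod p} (hj : j ≠ 0) :
    ∑ a : (ZMod p)ˣ, eta H ((a : ZMod p) * j) = -Nat.card H := by
  classical
  simp only [eta_eq]
  rw [Finset.sum_comm]
  have : ∀ h : H, ∑ a : (ZMod p)ˣ, ee (((h : (ZMod p)ˣ) : ZMod p) * ((a : ZMod p) * j)) = -1 := fun h => by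
    simp only [mul_left_comm (((h : (ZMod p)ˣ) : ZMod p))]
    exact sum_units_ee (mul_ne_zero (Units.ne_zero _) hj)
  simp [this]

theorem eta_top {j : ZMod p} (hj : j ≠ 0) : eta ⊤ j = -1 := by
  rw [eta_eq_filter]
  simp only [Subgroup.mem_top, if_true]
  exact sum_units_ee hj

open scoped Classical in
/-- the Gram matrix computation -/
theorem four_sub_eta (b b' : (ZMod p)ˣ) :
    four (fun a : ZMod p => Nat.card H - eta H ((b : ZMod p) * a)) b' =
      Nat.card H + if b⁻¹ * b' ∈ H then 1 else 0 := by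
  have h1 : (fun a : ZMod p => (Nat.card H : ℂ) - eta H ((b : ZMod p) * a)) =
      fun a => ∑ h : H, 1 * (1 - ee (((h : (ZMod p)ˣ) * b : ZMod p) * a)) := by
    funext a
    simp [eta_eq, mul_assoc]
  have h2 : ∀ c : (ZMod p)ˣ, four (fun a => 1 - ee ((c : ZMod p) * a)) b' =
      1 + if c = b' then 1 else 0 := fun c => by
    have h3 : ∀ a : ZMod p, (1 - ee ((c : ZMod p) * a)) * (1 - ee (-((b' : ZMod p) * a))) =
        1 - ee ((c : ZMod p) * a) - ee ((-(b' : ZMod p)) * a) + ee (((c : ZMod p) - (b' : ZMod p)) * a) := by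
      intro a
      rw [show ((c : ZMod p) - (b' : ZMod p)) * a = (c : ZMod p) * a + -((b' : ZMod p) * a) by ring, ee_add, neg_mul]
      ring
    simp only [four, h3, Finset.sum_add_distrib, Finset.sum_sub_distrib, sum_ee_mul',
      Units.ne_zero, neg_eq_zero, if_false, sub_eq_zero, Units.val_inj, Finset.sum_const,
      Finset.card_univ, ZMod.card, nsmul_eq_mul, mul_one, sub_zero]
    have := cast_p_ne_zero (p := p)
    split_ifs <;> field_simp
    simp
  rw [h1, four_sum]
  simp only [← Units.val_mul, h2, one_mul, Finset.sum_add_distrib, Finset.sum_const,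
    Finset.card_univ, nsmul_eq_mul, mul_one, Nat.card_eq_fintype_card]
  congr 1
  split_ifs with h
  · rw [Finset.sum_eq_single ⟨_, h⟩]
    · rw [if_pos (by simp [mul_comm])]
    · intro x _ hx
      rw [if_neg]
      rintro rfl
      exact hx (Subtype.ext (by simp [mul_comm]))
    · simp
  · refine Finset.sum_eq_zero fun x _ => if_neg ?_
    rintro rfl
    exact h (by simp [mul_comm])

theorem card_mul_index : Nat.card H * H.index = p - 1 := by
  rw [Subgroup.card_mul_index, Nat.card_eq_fintype_card, ZMod.card_units p]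

end eta

end CL.D1
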