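import Cfsg.Agent.Base
import Cfsg.Agent.Char.Galois
import Cfsg.Agent.D1.Fourier
import Cfsg.Agent.D1.Lattice

/-!
# The generalized decomposition numbers for a Sylow subgroup of order `p`
-/

set_option autoImplicit false

open Cfsg CL.Char Subgroup
open scoped ComplexConjugate

namespace CL.D1

variable {G : Type*} [Group G] {p : ℕ} [hp : Fact p.Prime] {z : G}

theorem zp_mul_pow (hz : orderOf z = p) (a : ZMod p) {y : G} (hy : Commute z y) {N : ℕ}
    (hN : orderOf y ∣ N) (hpN : ¬ p ∣ N) : (zp z a * y) ^ (N ^ (p - 1)) = zp z a := by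
  have h1 : y ^ (N ^ (p - 1)) = 1 := orderOf_dvd_iff_pow_eq_one.mp
    (hN.trans (dvd_pow_self N (by have := hp.out.two_le; omega)))
  rw [(commute_zp hy a).mul_pow, h1, mul_one, zp_pow hz, Nat.cast_pow,
    ZMod.pow_card_sub_one_eq_one (by rwa [Ne, ZMod.natCast_eq_zero_iff]), mul_one]

theorem conj_zp_eq_of_conj_mul (hz : orderOf z = p) {a a' : ZMod p} {y y' x : G}
    (hy : Commute z y) (hyp : ¬ p ∣ orderOf y) (hy' : Commute z y') (hyp' : ¬ p ∣ orderOf y')
    (h : x * (zp z a * y) * x⁻¹ = zp z a' * y') : x * zp z a * x⁻¹ = zp z a' := by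
  have hN : ¬ p ∣ orderOf y * orderOf y' := fun h => (hp.out.dvd_mul.mp h).elim hyp hyp'
  rw [← zp_mul_pow hz a hy (dvd_mul_right _ _) hN, ← zp_mul_pow hz a' hy' (dvd_mul_left _ _) hN,
    ← h, conj_pow]

theorem conj_z_of_conj_zp (hz : orderOf z = p) {a : (ZMod p)ˣ} {a' : ZMod p} {x : G}
    (h : x * zp z (a : ZMod p) * x⁻¹ = zp z a') :
    x * z * x⁻¹ = zp z (a' * ((a⁻¹ : (ZMod p)ˣ) : ZMod p)) := by
  rw [← zp_pow_val hz, ← h, conj_pow, zp_pow_val hz, Units.mul_inv, zp_one hz]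

theorem isConj_zp_iff (hz : orderOf z = p) (a a' : (ZMod p)ˣ) :
    IsConj (zp z (a : ZMod p)) (zp z (a' : ZMod p)) ↔ a⁻¹ * a' ∈ autH hz := by
  rw [mem_autH, isConj_iff, isConj_iff]
  constructor
  · rintro ⟨x, hx⟩
    exact ⟨x, by rw [conj_z_of_conj_zp hz hx, Units.val_mul, mul_comm]⟩
  · rintro ⟨x, hx⟩
    refine ⟨x, ?_⟩
    rw [conj_zp hz hx, Units.val_mul, mul_right_comm, Units.inv_mul, one_mul]

theorem centralizer_zp (hz : orderOf z = p) {a : ZMod p} (ha : a ≠ 0) :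
    centralizer ({zp z a} : Set G) = centralizer ({z} : Set G) := by
  ext x
  simp only [mem_centralizer_iff, Set.mem_singleton_iff, forall_eq]
  exact ⟨fun h => (commute_of_commute_zp hz ha h).eq, fun h => (commute_zp h a).eq⟩

theorem conj_mem_K (hz : orderOf z = p) {K : Subgroup G}
    (hK : ∀ y, y ∈ K ↔ Commute z y ∧ ¬ p ∣ orderOf y) {n : G} (hn : n * z * n⁻¹ ∈ zpowers z)
    {y : G} (hy : y ∈ K) : n * y * n⁻¹ ∈ K := by
  rw [hK] at hy ⊢
  have h1 : n⁻¹ * z * n⁻¹⁻¹ ∈ zpowers z := by rw [inv_inv]; exact conj_mem_zpowers_symm' hz hn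
  have h2 := commute_conj_of_normalizes hz h1 hy.1
  have h3 := orderOf_conj' n⁻¹ y
  rw [inv_inv] at h2 h3
  exact ⟨h2, h3 ▸ hy.2⟩

/-- the average of `χ` over the coset `z ^ a K` -/
noncomputable def dd (z : G) (K : Subgroup G) [Fintype K] (χ : G → ℂ) (a : ZMod p) : ℂ :=
  (Nat.card K : ℂ)⁻¹ * ∑ y : K, χ (zp z a * y)

variable {K : Subgroup G} [Fintype K]

theorem card_K_ne_zero : (Nat.card K : ℂ) ≠ 0 := Nat.cast_ne_zero.mpr Nat.card_pos.ne'

omit hp in
theorem dd_of_const {χ : G → ℂ} {a : ZMod p} {c : ℂ} (h : ∀ y ∈ K, χ (zp z a * y) = c) :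
    dd z K χ a = c := by
  rw [dd, Finset.sum_congr rfl fun (y : K) _ => h y y.2, Finset.sum_const, Finset.card_univ,
    ← Nat.card_eq_fintype_card, nsmul_eq_mul, ← mul_assoc, inv_mul_cancel₀ card_K_ne_zero, one_mul]

omit hp in
theorem dd_map (τ : ℂ ≃+* ℂ) (χ : G → ℂ) (a : ZMod p) :
    dd z K (fun g => τ (χ g)) a = τ (dd z K χ a) := by
  simp [dd]

omit hp in
theorem sum_mul_dd {ι : Type*} (s : Finset ι) (m : ι → ℂ) (χ : ι → G → ℂ) (a : ZMod p) :
    ∑ i ∈ s, m i * dd z K (χ i) a = dd z K (fun g => ∑ i ∈ s, m i * χ i g) a := by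
  simp only [dd, Finset.mul_sum]
  rw [Finset.sum_comm]
  exact Finset.sum_congr rfl fun y _ => Finset.sum_congr rfl fun i _ => by ring

theorem dd_mul (hz : orderOf z = p) (hK : ∀ y, y ∈ K ↔ Commute z y ∧ ¬ p ∣ orderOf y)
    {χ : G → ℂ} (hχ : IsClassFunction G χ) {h : (ZMod p)ˣ} (hh : h ∈ autH hz) (a : ZMod p) :
    dd z K χ ((h : ZMod p) * a) = dd z K χ a := by
  obtain ⟨n, hn⟩ := isConj_iff.mp ((mem_autH hz h).mp hh)
  have h1 : n * z * n⁻¹ ∈ zpowers z := hn ▸ zp_mem _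
  have h2 : n⁻¹ * z * n⁻¹⁻¹ ∈ zpowers z := by rw [inv_inv]; exact conj_mem_zpowers_symm' hz h1
  unfold dd
  congr 1
  symm
  refine Fintype.sum_equiv ⟨fun y => ⟨n * y * n⁻¹, conj_mem_K hz hK h1 y.2⟩,
    fun y => ⟨n⁻¹ * y * n⁻¹⁻¹, conj_mem_K hz hK h2 y.2⟩, fun y => by ext; simp [mul_assoc],
    fun y => by ext; simp [mul_assoc]⟩ _ _ fun y => ?_
  rw [← hχ _ n, ← conj_zp hz hn]
  simp [mul_assoc]

theorem four_dd_int (hz : orderOf z = p) (hK : ∀ y, y ∈ K ↔ Commute z y ∧ ¬ p ∣ orderOf y)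
    {χ : G → ℂ} (hχ : IsCharacter G χ) (b : ZMod p) : ∃ n : ℤ, four (dd z K χ) b = n := by
  let f : Multiplicative (ZMod p) × K →* G :=
    { toFun := fun x => zp z x.1.toAdd * x.2
      map_one' := by simp [zp_zero]
      map_mul' := fun x y => by
        simp only [Prod.fst_mul, toAdd_mul, zp_add hz, Prod.snd_mul, Subgroup.coe_mul, mul_assoc]
        congr 1
        rw [← mul_assoc, ← mul_assoc, (commute_zp ((hK _).mp x.2.2).1 _).eq] }
  let l : ZMod p → (Multiplicative (ZMod p) × K →* ℂ) := fun c =>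
    { toFun := fun x => ee (c * x.1.toAdd)
      map_one' := by simp
      map_mul' := fun x y => by simp only [Prod.fst_mul, toAdd_mul, mul_add, ee_add] }
  have hf : ∀ (a : ZMod p) (y : K), f (Multiplicative.ofAdd a, y) = zp z a * y := fun _ _ => rfl
  have hl : ∀ (c a : ZMod p) (y : K), l c (Multiplicative.ofAdd a, y) = ee (c * a) :=
    fun _ _ _ => rfl
  clear_value f l
  have h : ∀ c : ZMod p, ∃ n : ℕ,
      (p : ℂ)⁻¹ * ∑ a : ZMod p, dd z K χ a * ee (-(c * a)) = n := fun c => by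
    obtain ⟨n, hn⟩ := char_inner_nat (char_comp hχ f) (irr_isCharacter (irr_monoidHom (l c)))
    refine ⟨n, ?_⟩
    have hc : Nat.card (Multiplicative (ZMod p) × K) = p * Nat.card K := by
      rw [Nat.card_prod, Nat.card_congr Multiplicative.toAdd, Nat.card_zmod]
    rw [← hn, classInner_def, Fintype.sum_prod_type, hc, Nat.cast_mul, mul_inv, mul_assoc]
    congr 1
    rw [Finset.mul_sum]
    refine Fintype.sum_equiv Multiplicative.ofAdd _ _ fun a => ?_
    simp only [hf, hl, conj_ee, dd, mul_assoc, Finset.sum_mul]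
  obtain ⟨n₀, h₀⟩ := h 0
  obtain ⟨n₁, h₁⟩ := h b
  refine ⟨n₀ - n₁, ?_⟩
  push_cast
  rw [← h₀, ← h₁, four, ← mul_sub, ← Finset.sum_sub_distrib]
  simp [mul_sub]

variable [Finite G]

omit hp in
theorem sum_irr_conj_dd (g : G) (a : ZMod p) :
    ∑ χ : IrrCharacter G, (χ : G → ℂ) g * conj (dd z K χ a) =
      (Nat.card K : ℂ)⁻¹ * ∑ y : K, (Nat.card {x : G // x * g * x⁻¹ = zp z a * y} : ℂ) := by
  simp only [← sum_irr_mul_conj_eq_card, dd, map_mul, map_inv₀, map_natCast, map_sum,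
    Finset.mul_sum]
  rw [Finset.sum_comm]
  exact Finset.sum_congr rfl fun y _ => Finset.sum_congr rfl fun i _ => by ring

theorem sum_irr_conj_dd_reg (hz : orderOf z = p)
    (hK : ∀ y, y ∈ K ↔ Commute z y ∧ ¬ p ∣ orderOf y) {g : G} (hg : ¬ p ∣ orderOf g)
    {a : ZMod p} (ha : a ≠ 0) :
    ∑ χ : IrrCharacter G, (χ : G → ℂ) g * conj (dd z K χ a) = 0 := by
  rw [sum_irr_conj_dd, Finset.sum_eq_zero, mul_zero]
  intro y _
  have : IsEmpty {x : G // x * g * x⁻¹ = zp z a * y} := ⟨fun x => hg (by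
    have h1 := dvd_orderOf_zp_mul hz ha ((hK _).mp y.2).1 ((hK _).mp y.2).2
    have h2 := orderOf_conj' x.1⁻¹ g
    rw [inv_inv, x.2] at h2
    exact h2 ▸ h1)⟩
  simp

open scoped Classical in
theorem sum_irr_conj_dd_sing (hz : orderOf z = p)
    (hK : ∀ y, y ∈ K ↔ Commute z y ∧ ¬ p ∣ orderOf y)
    (hKc : Nat.card K * p = Nat.card (centralizer ({z} : Set G))) (a a' : (ZMod p)ˣ) {y : G}
    (hy : y ∈ K) :
    ∑ χ : IrrCharacter G, (χ : G → ℂ) (zp z (a : ZMod p) * y) * conj (dd z K χ (a' : ZMod p)) =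
      if a⁻¹ * a' ∈ autH hz then (p : ℂ) else 0 := by
  let := Fintype.ofFinite G
  have h1 : ∑ y' : K, (Nat.card {x : G // x * (zp z (a : ZMod p) * y) * x⁻¹ =
      zp z (a' : ZMod p) * y'} : ℂ) =
      Nat.card {x : G // x * zp z (a : ZMod p) * x⁻¹ = zp z (a' : ZMod p)} := by
    simp only [Nat.card_eq_fintype_card, Fintype.card_subtype, Finset.card_filter]
    push_cast
    rw [Finset.sum_comm]
    refine Finset.sum_congr rfl fun x _ => ?_
    split_ifs with h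
    · have h2 : x * z * x⁻¹ ∈ zpowers z := conj_z_of_conj_zp hz h ▸ zp_mem _
      rw [Finset.sum_eq_single ⟨_, conj_mem_K hz hK h2 hy⟩]
      · rw [if_pos (by rw [← h]; simp [mul_assoc])]
      · intro y' _ hne
        rw [if_neg]
        intro h3
        apply hne
        ext
        rw [← h] at h3
        change (y' : G) = x * y * x⁻¹
        apply mul_left_cancel (a := x * zp z (a : ZMod p) * x⁻¹)
        rw [← h3]
        simp [mul_assoc]
      · simp
    · refine Finset.sum_eq_zero fun y' _ => if_neg fun h3 => h ?_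
      exact conj_zp_eq_of_conj_mul hz ((hK _).mp hy).1 ((hK _).mp hy).2 ((hK _).mp y'.2).1
        ((hK _).mp y'.2).2 h3
  rw [sum_irr_conj_dd, h1, ← sum_irr_mul_conj_eq_card]
  split_ifs with h
  · rw [sum_irr_mul_conj_of_isConj ((isConj_zp_iff hz a a').mpr h),
      centralizer_zp hz (Units.ne_zero a), ← hKc, Nat.cast_mul, ← mul_assoc,
      inv_mul_cancel₀ card_K_ne_zero, one_mul]
  · rw [sum_irr_mul_conj_of_not_isConj (fun h' => h ((isConj_zp_iff hz a a').mp h')), mul_zero]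

section U

variable {u : IrrCharacter G → ZMod p → ℤ}

theorem sum_u_eq (hu : ∀ (χ : IrrCharacter G) b, four (dd z K χ) b = u χ b) (b : ZMod p) (g : G) :
    ∑ χ, (u χ b : ℂ) * (χ : G → ℂ) g = (p : ℂ)⁻¹ * ∑ a : (ZMod p)ˣ,
      (∑ χ : IrrCharacter G, (χ : G → ℂ) g * conj (dd z K χ (a : ZMod p))) *
        (1 - ee (b * (a : ZMod p))) := by
  have h1 : ∀ χ, (u χ b : ℂ) = (p : ℂ)⁻¹ * ∑ a : (ZMod p)ˣ,
      conj (dd z K χ (a : ZMod p)) * (1 - ee (b * (a : ZMod p))) := fun χ => by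
    rw [← map_intCast (starRingEnd ℂ), ← hu, four, sum_eq_add_sum_units]
    simp [conj_ee]
  simp only [h1, Finset.mul_sum, Finset.sum_mul]
  rw [Finset.sum_comm]
  exact Finset.sum_congr rfl fun y _ => Finset.sum_congr rfl fun i _ => by ring

theorem sum_u_reg (hz : orderOf z = p) (hK : ∀ y, y ∈ K ↔ Commute z y ∧ ¬ p ∣ orderOf y)
    (hu : ∀ (χ : IrrCharacter G) b, four (dd z K χ) b = u χ b) (b : ZMod p) {g : G}
    (hg : ¬ p ∣ orderOf g) : ∑ χ, (u χ b : ℂ) * (χ : G → ℂ) g = 0 := by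
  rw [sum_u_eq hu]
  simp only [sum_irr_conj_dd_reg hz hK hg (Units.ne_zero _), zero_mul, Finset.sum_const_zero,
    mul_zero]

theorem sum_u_sing (hz : orderOf z = p) (hK : ∀ y, y ∈ K ↔ Commute z y ∧ ¬ p ∣ orderOf y)
    (hKc : Nat.card K * p = Nat.card (centralizer ({z} : Set G)))
    (hu : ∀ (χ : IrrCharacter G) b, four (dd z K χ) b = u χ b) (b : ZMod p) {a : ZMod p}
    (ha : a ≠ 0) {y : G} (hy : y ∈ K) :
    ∑ χ, (u χ b : ℂ) * (χ : G → ℂ) (zp z a * y) =
      Nat.card (autH hz) - eta (autH hz) (b * a) := by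
  classical
  lift a to (ZMod p)ˣ using (Ne.isUnit ha)
  rw [sum_u_eq hu, ← eta_zero, eta_eq_filter, eta_eq_filter, ← Finset.sum_sub_distrib,
    Finset.mul_sum]
  symm
  refine Fintype.sum_equiv (Equiv.mulLeft a) _ _ fun h => ?_
  rw [sum_irr_conj_dd_sing hz hK hKc a _ hy]
  simp only [Equiv.coe_mulLeft, inv_mul_cancel_left, mul_zero, ee_zero, Units.val_mul]
  have := cast_p_ne_zero (p := p)
  split_ifs
  · rw [show (h : ZMod p) * (b * a) = b * (a * h) by ring]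
    field_simp
  · simp

open scoped Classical in
theorem gram (hz : orderOf z = p) (hK : ∀ y, y ∈ K ↔ Commute z y ∧ ¬ p ∣ orderOf y)
    (hKc : Nat.card K * p = Nat.card (centralizer ({z} : Set G)))
    (hu : ∀ (χ : IrrCharacter G) b, four (dd z K χ) b = u χ b) (b b' : (ZMod p)ˣ) :
    ∑ χ, u χ b * u χ b' = Nat.card (autH hz) + if b⁻¹ * b' ∈ autH hz then 1 else 0 := by
  have h1 := four_sub_eta (autH hz) b b'
  rw [← four_congr (f := fun a => ∑ χ, (u χ b : ℂ) * dd z K χ a) (fun a ha => by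
    rw [sum_mul_dd]
    exact dd_of_const fun y hy => sum_u_sing hz hK hKc hu b ha hy), four_sum] at h1
  simp only [hu] at h1
  split_ifs at h1 ⊢ <;> exact_mod_cast h1

omit [Finite G] in
theorem u_mul (hz : orderOf z = p) (hK : ∀ y, y ∈ K ↔ Commute z y ∧ ¬ p ∣ orderOf y)
    (hu : ∀ (χ : IrrCharacter G) b, four (dd z K χ) b = u χ b) (χ : IrrCharacter G)
    {b b' : (ZMod p)ˣ} (h : b⁻¹ * b' ∈ autH hz) : u χ b = u χ b' := by
  have := four_mul_left (f := dd z K χ) (b⁻¹ * b')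
    (dd_mul hz hK (irr_isClassFunction χ.2) h) b
  rw [hu, hu, ← Units.val_mul, mul_right_comm, inv_mul_cancel, one_mul] at this
  exact_mod_cast this.symm

end U

end CL.D1
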