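import Cfsg.Agent.Base
import Cfsg.Agent.Char.Exceptional
import Cfsg.Agent.D1.Gram
import Cfsg.Agent.D1.Bridge

/-!
# Non-exceptional and exceptional characters
-/

set_option autoImplicit false

open Cfsg CL.Char Subgroup
open scoped ComplexConjugate

namespace CL.D1

variable {G : Type*} [Group G] [Finite G] {p : ℕ} [hp : Fact p.Prime] {z : G}
  {K : Subgroup G} [Fintype K] {u : IrrCharacter G → ZMod p → ℤ}

theorem bridge' (hz : orderOf z = p) (hP : ¬ p ^ 2 ∣ Nat.card G)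
    (hK : ∀ y, y ∈ K ↔ Commute z y ∧ ¬ p ∣ orderOf y)
    (hu : ∀ (χ : IrrCharacter G) b, four (dd z K χ) b = u χ b)
    (S : Finset (IrrCharacter G)) (hS : S.Nonempty)
    (hSτ : ∀ τ : ℂ ≃+* ℂ, ∀ χ ∈ S, irrMapEquiv G τ χ ∈ S)
    (hne : ∀ m : IrrCharacter G → ℕ, (∀ χ, χ ∉ S → m χ = 0) → m ≠ 0 →
      ∃ b : (ZMod p)ˣ, ∑ χ, (m χ : ℤ) * u χ b ≠ 0) :
    ∃ m : IrrCharacter G → ℕ, (∀ χ, χ ∉ S → m χ = 0) ∧ ∃ δ : ℤ, (δ = 1 ∨ δ = -1) ∧
      (∀ b : (ZMod p)ˣ, ∑ χ, (m χ : ℤ) * u χ b = δ) ∧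
      ∀ a : ZMod p, a ≠ 0 → ∀ y ∈ K, ∑ χ, (m χ : ℂ) * (χ : G → ℂ) (zp z a * y) = δ := by
  have key : ∀ (m : IrrCharacter G → ℕ) (c : ℤ),
      (∀ a : ZMod p, a ≠ 0 → ∑ χ, (m χ : ℂ) * dd z K χ a = c) →
      ∀ b : (ZMod p)ˣ, ∑ χ, (m χ : ℤ) * u χ b = c := fun m c h b => by
    have h1 := four_const h b.ne_zero
    rw [four_sum] at h1
    simp only [hu] at h1
    exact_mod_cast h1
  obtain ⟨m, hm, δ, hδ, h⟩ := bridge hz hP K hK S hS hSτ fun m hm hm0 => by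
    obtain ⟨b, hb⟩ := hne m hm hm0
    by_contra h0
    push Not at h0
    refine hb (key m 0 (fun a ha => ?_) b)
    have h1 := h0 _ (not_dvd_val ha)
    simp only [dd, mul_left_comm _ (Nat.card K : ℂ)⁻¹, ← Finset.mul_sum]
    rw [Int.cast_zero]
    exact mul_eq_zero_of_right _ h1
  have h' : ∀ a : ZMod p, a ≠ 0 → ∀ y ∈ K,
      ∑ χ, (m χ : ℂ) * (χ : G → ℂ) (zp z a * y) = δ := fun a ha y hy => h _ (not_dvd_val ha) y hy
  refine ⟨m, hm, δ, hδ, key m δ fun a ha => ?_, h'⟩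
  rw [sum_mul_dd]
  exact dd_of_const (h' a ha)

theorem u_const_map (hu : ∀ (χ : IrrCharacter G) b, four (dd z K χ) b = u χ b)
    {χ : IrrCharacter G} {c : ℤ} (h : ∀ b : (ZMod p)ˣ, u χ b = c) (τ : ℂ ≃+* ℂ)
    (b : (ZMod p)ˣ) : u (irrMapEquiv G τ χ) b = c := by
  have h1 : ∀ a : ZMod p, a ≠ 0 → dd z K χ a = c := fun a ha =>
    eq_of_four_const (fun b => by rw [hu, h]) ha
  have h2 : ∀ a : ZMod p, a ≠ 0 → dd z K (irrMapEquiv G τ χ : IrrCharacter G) a = c :=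
    fun a ha => (dd_map (z := z) (K := K) τ χ a).trans (by rw [h1 a ha, map_intCast])
  have h3 := four_const h2 b.ne_zero
  rw [hu] at h3
  exact_mod_cast h3

omit hp in
theorem irrMapEquiv_symm_apply (τ : ℂ ≃+* ℂ) (χ : IrrCharacter G) :
    irrMapEquiv G τ.symm (irrMapEquiv G τ χ) = χ :=
  Subtype.ext (funext fun g => by simp [irrMapEquiv_apply])

omit [Fintype K] in
theorem apply_eq_of_forall_zp (hz : orderOf z = p) (hP : ¬ p ^ 2 ∣ Nat.card G)
    (hK : ∀ y, y ∈ K ↔ Commute z y ∧ ¬ p ∣ orderOf y) {φ : G → ℂ} (hφ : IsClassFunction G φ)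
    {c : ℂ} (h : ∀ a : ZMod p, a ≠ 0 → ∀ y ∈ K, φ (zp z a * y) = c) {g : G}
    (hg : p ∣ orderOf g) : φ g = c := by
  obtain ⟨x, a, y, ha, h1, h2, h3⟩ := exists_conj_eq_zp_mul hz hP hg
  rw [← hφ g x, h3, h a ha y ((hK y).mpr ⟨h1, h2⟩)]

/-- the non-exceptional characters -/
theorem nonexceptional (hz : orderOf z = p) (hP : ¬ p ^ 2 ∣ Nat.card G)
    (hK : ∀ y, y ∈ K ↔ Commute z y ∧ ¬ p ∣ orderOf y)
    (hu : ∀ (χ : IrrCharacter G) b, four (dd z K χ) b = u χ b)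
    {χ : IrrCharacter G} {c : ℤ} (hc : c ≠ 0) (h : ∀ b : (ZMod p)ˣ, u χ b = c) :
    (c = 1 ∨ c = -1) ∧ ∀ g : G, p ∣ orderOf g → (χ : G → ℂ) g = c := by
  classical
  let S : Finset (IrrCharacter G) := Finset.univ.filter fun φ => ∃ τ, φ = irrMapEquiv G τ χ
  have hS : ∀ φ, φ ∈ S ↔ ∃ τ, φ = irrMapEquiv G τ χ := fun φ => by simp [S]
  have hsum : ∀ m : IrrCharacter G → ℕ, (∀ φ, φ ∉ S → m φ = 0) → ∀ b : (ZMod p)ˣ,
      ∑ φ, (m φ : ℤ) * u φ b = (∑ φ, m φ : ℕ) * c := fun m hm b => by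
    rw [Nat.cast_sum, Finset.sum_mul]
    refine Finset.sum_congr rfl fun φ _ => ?_
    by_cases hφ : φ ∈ S
    · obtain ⟨τ, rfl⟩ := (hS φ).mp hφ
      rw [u_const_map hu h]
    · simp [hm φ hφ]
  obtain ⟨m, hm, δ, hδ, h1, h2⟩ := bridge' hz hP hK hu S
    ⟨χ, (hS χ).mpr ⟨RingEquiv.refl ℂ, rfl⟩⟩
    (fun τ φ hφ => by
      obtain ⟨σ, rfl⟩ := (hS φ).mp hφ
      exact (hS _).mpr ⟨σ.trans τ, rfl⟩)
    (fun m hm hm0 => ⟨1, by
      rw [hsum m hm]
      refine mul_ne_zero ?_ hc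
      rw [Nat.cast_ne_zero, Ne, Finset.sum_eq_zero_iff]
      exact fun h => hm0 (funext fun φ => h φ (Finset.mem_univ _))⟩)
  have h3 := h1 1
  rw [hsum m hm] at h3
  have h4 : ∑ φ, m φ = 1 := by
    have : IsUnit ((∑ φ, m φ : ℕ) : ℤ) :=
      isUnit_of_mul_isUnit_left (h3 ▸ Int.isUnit_iff.mpr hδ)
    rcases Int.isUnit_iff.mp this with h | h <;> omega
  rw [h4, Nat.cast_one, one_mul] at h3
  subst h3
  refine ⟨hδ, fun g hg => apply_eq_of_forall_zp hz hP hK (irr_isClassFunction χ.2)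
    (fun a ha y hy => ?_) hg⟩
  obtain ⟨φ, -, hφ⟩ := Finset.exists_ne_zero_of_sum_ne_zero (h4.trans_ne one_ne_zero)
  rw [← Finset.add_sum_erase _ _ (Finset.mem_univ φ)] at h4
  have h5 : ∀ ψ, ψ ≠ φ → m ψ = 0 := fun ψ hψ =>
    Finset.sum_eq_zero_iff.mp (by omega : ∑ x ∈ Finset.univ.erase φ, m x = 0) ψ (by simpa using hψ)
  have h6 := h2 a ha y hy
  rw [Finset.sum_eq_single φ (fun ψ _ hψ => by simp [h5 ψ hψ]) (by simp),
    show m φ = 1 by omega, Nat.cast_one, one_mul] at h6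
  obtain ⟨τ, rfl⟩ := (hS φ).mp (by_contra fun h => hφ (hm φ h))
  rw [irrMapEquiv_apply, ← map_intCast τ] at h6
  exact τ.injective h6

omit hp in
theorem classInner_sum_int [Fintype G] (c c' : IrrCharacter G → ℤ) :
    classInner (∑ χ : IrrCharacter G, (c χ : ℂ) • (χ : G → ℂ))
      (∑ χ : IrrCharacter G, (c' χ : ℂ) • (χ : G → ℂ)) = ((∑ χ, c χ * c' χ : ℤ) : ℂ) := by
  rw [classInner_eq_sum (isClassFunction_sum_irr _)]
  simp only [classInner_sum_irr, map_intCast]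
  push_cast
  rfl

open scoped Classical in
theorem exists_family (hz : orderOf z = p) (hK : ∀ y, y ∈ K ↔ Commute z y ∧ ¬ p ∣ orderOf y)
    (hKc : Nat.card K * p = Nat.card (centralizer ({z} : Set G)))
    (hu : ∀ (χ : IrrCharacter G) b, four (dd z K χ) b = u χ b) :
    ∃ ε : ℤ, (ε = 1 ∨ ε = -1) ∧ ∃ μ : (ZMod p)ˣ ⧸ autH hz → IrrCharacter G,
      Function.Injective μ ∧ ∀ χ i j, u χ (i.out : (ZMod p)ˣ) - u χ (j.out : (ZMod p)ˣ) =
        ε * ((if μ i = χ then 1 else 0) - (if μ j = χ then 1 else 0)) := by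
  let := Fintype.ofFinite G
  let U : (ZMod p)ˣ ⧸ autH hz → G → ℂ := fun i =>
    ∑ χ : IrrCharacter G, (u χ (i.out : (ZMod p)ˣ) : ℂ) • (χ : G → ℂ)
  have hU : ∀ i j, classInner (U i) (U j) =
      (Nat.card (autH hz) : ℂ) + if i = j then 1 else 0 := fun i j => by
    rw [classInner_sum_int, gram hz hK hKc hu, ← QuotientGroup.eq, QuotientGroup.out_eq',
      QuotientGroup.out_eq']
    split_ifs <;> simp
  have hU1 : ∀ i, U i 1 = 0 := fun i => by
    have := sum_u_reg hz hK hu ((i.out : (ZMod p)ˣ) : ZMod p) (g := 1)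
      (by rw [orderOf_one]; exact hp.out.not_dvd_one)
    simpa [U, Finset.sum_apply] using this
  obtain ⟨ε, hε, μ, hμ, hinj, hD⟩ := exists_irr_family_of_diff (fun i j => U i - U j)
    (fun i j k => by ring) (fun i j => gen_sub (gen_sum_irr _) (gen_sum_irr _))
    (fun i j => by simp [hU1])
    (fun i j hij => by
      simp only [classInner_sub_left, classInner_sub_right, hU, if_true, if_neg hij,
        if_neg hij.symm]
      ring)
    (fun i j k hik hjk hij => by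
      simp only [classInner_sub_left, classInner_sub_right, hU, if_true, if_neg hij,
        if_neg hik, if_neg hjk.symm]
      ring)
  obtain ⟨ε', hε', rfl⟩ : ∃ ε' : ℤ, (ε' = 1 ∨ ε' = -1) ∧ (ε' : ℂ) = ε := by
    rcases hε with rfl | rfl
    · exact ⟨1, Or.inl rfl, by simp⟩
    · exact ⟨-1, Or.inr rfl, by simp⟩
  refine ⟨ε', hε', fun i => ⟨μ i, hμ i⟩, fun i j h => hinj (congrArg Subtype.val h),
    fun χ i j => ?_⟩
  have h1 := congrArg (fun φ => classInner φ (χ : G → ℂ)) (hD i j)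
  simp only [classInner_sub_left, classInner_smul_left, U, classInner_sum_irr] at h1
  rw [irrChar_inner ⟨μ i, hμ i⟩ χ, irrChar_inner ⟨μ j, hμ j⟩ χ] at h1
  split_ifs at h1 ⊢ <;> exact_mod_cast h1

open scoped Classical in
theorem exceptional_of_ne_top (hz : orderOf z = p) (hP : ¬ p ^ 2 ∣ Nat.card G)
    (hK : ∀ y, y ∈ K ↔ Commute z y ∧ ¬ p ∣ orderOf y)
    (hKc : Nat.card K * p = Nat.card (centralizer ({z} : Set G)))
    (hu : ∀ (χ : IrrCharacter G) b, four (dd z K χ) b = u χ b) (hH : autH hz ≠ ⊤) :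
    ∃ ε : ℤ, (ε = 1 ∨ ε = -1) ∧ ∃ μ : (ZMod p)ˣ ⧸ autH hz → IrrCharacter G,
      Function.Injective μ ∧
      (∀ i j, u (μ i) (j.out : (ZMod p)ˣ) = if i = j then ε else 0) ∧
      ∀ χ, (∀ i, μ i ≠ χ) → ∀ i j : (ZMod p)ˣ ⧸ autH hz,
        u χ (i.out : (ZMod p)ˣ) = u χ (j.out : (ZMod p)ˣ) := by
  obtain ⟨ε, hε, μ, hinj, hD⟩ := exists_family hz hK hKc hu
  have hε2 : ε * ε = 1 := by rcases hε with rfl | rfl <;> simp
  have hε0 : ε ≠ 0 := by rintro rfl; simp at hε2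
  have hnt : Nontrivial ((ZMod p)ˣ ⧸ autH hz) := by
    rw [← Finite.one_lt_card_iff_nontrivial]
    exact one_lt_index_of_ne_top hH
  have hout : ∀ χ (b : (ZMod p)ˣ), u χ b =
      u χ ((b : (ZMod p)ˣ ⧸ autH hz).out : (ZMod p)ˣ) := fun χ b =>
    u_mul hz hK hu χ (by rw [← QuotientGroup.eq, QuotientGroup.out_eq'])
  have hoff : ∀ χ, (∀ i, μ i ≠ χ) → ∀ i j : (ZMod p)ˣ ⧸ autH hz,
      u χ (i.out : (ZMod p)ˣ) = u χ (j.out : (ZMod p)ˣ) := fun χ h i j => by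
    have := hD χ i j
    rw [if_neg (h i), if_neg (h j)] at this
    omega
  -- the constant `c`
  have hon : ∀ k j, u (μ k) (j.out : (ZMod p)ˣ) =
      (u (μ k) (k.out : (ZMod p)ˣ) - ε) + if k = j then ε else 0 := fun k j => by
    have := hD (μ k) k j
    simp only [if_true, hinj.eq_iff, eq_comm (a := j)] at this
    split_ifs at this ⊢ <;> linarith
  have hc : ∀ i j, u (μ i) (i.out : (ZMod p)ˣ) = u (μ j) (j.out : (ZMod p)ˣ) := fun i j => by
    by_cases hij : i = j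
    · rw [hij]
    have h1 := gram hz hK hKc hu i.out i.out
    have h2 := gram hz hK hKc hu i.out j.out
    rw [← QuotientGroup.eq, if_pos rfl] at h1
    rw [← QuotientGroup.eq, QuotientGroup.out_eq', QuotientGroup.out_eq', if_neg hij] at h2
    have h3 : ∑ χ, u χ (i.out : (ZMod p)ˣ) *
        (u χ (i.out : (ZMod p)ˣ) - u χ (j.out : (ZMod p)ˣ)) = 1 := by
      simp only [mul_sub, Finset.sum_sub_distrib, h1, h2]
      ring
    simp only [hD, mul_sub, mul_ite, mul_one, mul_zero, Finset.sum_sub_distrib,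
      Finset.sum_ite_eq, Finset.mem_univ, if_true] at h3
    rw [hon j i, if_neg (Ne.symm hij)] at h3
    have h4 : (u (μ i) (i.out : (ZMod p)ˣ) - u (μ j) (j.out : (ZMod p)ˣ)) * ε = 0 := by
      linarith
    exact sub_eq_zero.mp ((mul_eq_zero.mp h4).resolve_right hε0)
  obtain ⟨c, hc⟩ : ∃ c : ℤ, ∀ k j, u (μ k) (j.out : (ZMod p)ˣ) = c + if k = j then ε else 0 :=
    ⟨u (μ 1) ((1 : (ZMod p)ˣ ⧸ autH hz).out : (ZMod p)ˣ) - ε, fun k j => by rw [hon, hc k 1]⟩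
  let S : Finset (IrrCharacter G) := Finset.univ.image μ
  have hS : ∀ χ, χ ∈ S ↔ ¬ ∃ c, ∀ b : (ZMod p)ˣ, u χ b = c := fun χ => by
    simp only [S, Finset.mem_image, Finset.mem_univ, true_and]
    constructor
    · rintro ⟨k, rfl⟩ ⟨c', h⟩
      obtain ⟨j, hj⟩ := exists_ne k
      have h1 := hc k k
      have h2 := hc k j
      rw [h, if_pos rfl] at h1
      rw [h, if_neg hj.symm] at h2
      omega
    · intro h
      by_contra h1
      push Not at h1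
      exact h ⟨_, fun b => (hout χ b).trans (hoff χ h1 _ 1)⟩
  have hsum : ∀ m : IrrCharacter G → ℕ, (∀ χ, χ ∉ S → m χ = 0) → ∀ j : (ZMod p)ˣ ⧸ autH hz,
      ∑ χ, (m χ : ℤ) * u χ (j.out : (ZMod p)ˣ) =
        (∑ k, (m (μ k) : ℤ)) * c + m (μ j) * ε := fun m hm j => by
    rw [← Fintype.sum_of_injective μ hinj (fun k => (m (μ k) : ℤ) * u (μ k) (j.out : (ZMod p)ˣ))
      _ (fun χ hχ => by rw [hm χ (by simpa [S] using hχ)]; simp) fun _ => rfl]
    simp only [hc, mul_add, Finset.sum_add_distrib, Finset.sum_mul, mul_ite, mul_zero,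
      Finset.sum_ite_eq', Finset.mem_univ, if_true]
  have hall : ∀ (m : IrrCharacter G → ℕ) (δ : ℤ), (∀ χ, χ ∉ S → m χ = 0) →
      (∀ b : (ZMod p)ˣ, ∑ χ, (m χ : ℤ) * u χ b = δ) → (∀ j, m (μ j) = m (μ 1)) ∧
        m (μ 1) * ((autH hz).index * c + ε) = δ := fun m δ hm h => by
    have h1 : ∀ j, m (μ j) = m (μ 1) := fun j => by
      have h2 := h j.out
      have h3 := h (1 : (ZMod p)ˣ ⧸ autH hz).out
      rw [hsum m hm] at h2 h3
      have h4 : ((m (μ j) : ℤ) - m (μ 1)) * ε = 0 := by linarith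
      have := (mul_eq_zero.mp h4).resolve_right hε0
      omega
    refine ⟨h1, ?_⟩
    have h3 := h (1 : (ZMod p)ˣ ⧸ autH hz).out
    rw [hsum m hm] at h3
    simp only [h1, Finset.sum_const, Finset.card_univ, ← Nat.card_eq_fintype_card,
      ← index_eq_card, nsmul_eq_mul] at h3
    linarith
  have ht : 2 ≤ ((autH hz).index : ℤ) := by exact_mod_cast one_lt_index_of_ne_top hH
  obtain ⟨m, hm, δ, hδ, h1, -⟩ := bridge' hz hP hK hu S ⟨μ 1, by simp [S]⟩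
    (fun τ χ hχ => by
      rw [hS] at hχ ⊢
      rintro ⟨c', h⟩
      exact hχ ⟨c', fun b => by rw [← u_const_map hu h τ.symm b, irrMapEquiv_symm_apply]⟩)
    (fun m hm hm0 => by
      by_contra h
      push Not at h
      obtain ⟨h1, h2⟩ := hall m 0 hm h
      rcases mul_eq_zero.mp h2 with h2 | h2
      · refine hm0 (funext fun χ => ?_)
        by_cases hχ : χ ∈ S
        · obtain ⟨k, -, rfl⟩ := Finset.mem_image.mp hχ
          rw [h1]
          exact_mod_cast h2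
        · exact hm χ hχ
      · have h3 : ((autH hz).index : ℤ) ∣ 1 := by
          rw [← hε2]
          exact Dvd.dvd.mul_right ⟨-c, by linarith⟩ _
        have := Int.le_of_dvd one_pos h3
        omega)
  obtain ⟨-, h2⟩ := hall m δ hm h1
  have h3 : IsUnit (((autH hz).index : ℤ) * c + ε) :=
    isUnit_of_mul_isUnit_right (h2 ▸ Int.isUnit_iff.mpr hδ)
  by_cases hc0 : c = 0
  · exact ⟨ε, hε, μ, hinj, fun i j => by rw [hc, hc0, zero_add], hoff⟩
  have h4 : (autH hz).index = 2 ∧ c = -ε := by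
    rcases Int.isUnit_iff.mp h3 with h | h <;> rcases hε with rfl | rfl <;>
      rcases lt_or_gt_of_ne hc0 with h5 | h5 <;> constructor <;> nlinarith
  obtain ⟨h5, rfl⟩ := h4
  have h6 := fun x => (Nat.card_eq_two_iff' x).mp (index_eq_card (autH hz) ▸ h5)
  choose σ hσ hσ' using h6
  refine ⟨-ε, by omega, μ ∘ σ, hinj.comp fun i j hij => ?_, fun i j => ?_,
    fun χ h => hoff χ fun i => ?_⟩
  · by_contra h
    exact hσ i (hij.trans (hσ' j i h).symm)
  · rw [Function.comp_apply, hc]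
    by_cases hij : i = j
    · rw [if_pos hij, if_neg (hij ▸ hσ i), add_zero]
    · rw [if_neg hij, if_pos (hσ' i j (Ne.symm hij)).symm, neg_add_cancel]
  · have := h (σ i)
    rwa [Function.comp_apply, ← hσ' (σ i) i (hσ i).symm] at this

end CL.D1
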