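import Cfsg.Agent.Base
import Cfsg.Agent.D1.Defs
import Cfsg.Agent.D1.Assemble

/-!
# Brauer's theorem on the principal block of a group with a Sylow subgroup of order `p`
-/

set_option autoImplicit false

open Cfsg CL.Char Subgroup

namespace CL.D1

section

variable {G : Type*} [Group G] [Finite G] {p : ℕ} [hp : Fact p.Prime] {z : G}
  {K : Subgroup G} [Fintype K] {u : IrrCharacter G → ZMod p → ℤ}

omit [Finite G] in
theorem u_irrOne (hu : ∀ (χ : IrrCharacter G) b, four (dd z K χ) b = u χ b) (b : (ZMod p)ˣ) :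
    u (irrOne G) b = 1 := by
  have := four_const (f := dd z K (irrOne G : G → ℂ)) (c := 1)
    (fun a _ => dd_of_const fun y _ => rfl) b.ne_zero
  rw [hu] at this
  exact_mod_cast this

open scoped Classical in
theorem exists_theta (hz : orderOf z = p) (hP : ¬ p ^ 2 ∣ Nat.card G)
    (hK : ∀ y, y ∈ K ↔ Commute z y ∧ ¬ p ∣ orderOf y)
    (hKc : Nat.card K * p = Nat.card (centralizer ({z} : Set G)))
    (hu : ∀ (χ : IrrCharacter G) b, four (dd z K χ) b = u χ b) :
    ∃ ε : ℤ, (ε = 1 ∨ ε = -1) ∧ ∃ θ : (ZMod p)ˣ → IrrCharacter G,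
      (∀ a b, θ a = θ b ↔ a⁻¹ * b ∈ autH hz) ∧
      (∀ a b : (ZMod p)ˣ, u (θ a) b = if a⁻¹ * b ∈ autH hz then ε else 0) ∧
      (∀ a, θ a ≠ irrOne G) ∧
      ∀ χ, (∀ a, θ a ≠ χ) → ∀ b : (ZMod p)ˣ, u χ b = u χ (1 : (ZMod p)ˣ) := by
  by_cases hH : autH hz = ⊤
  · have hc : ∀ χ (b : (ZMod p)ˣ), u χ b = u χ (1 : (ZMod p)ˣ) := fun χ b =>
      u_mul hz hK hu χ (by rw [hH]; trivial)
    have h1 := gram hz hK hKc hu 1 1
    rw [if_pos (by rw [hH]; trivial), ← Finset.add_sum_erase _ _ (Finset.mem_univ (irrOne G)),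
      u_irrOne hu] at h1
    have h2 : 0 < Nat.card (autH hz) := Nat.card_pos
    obtain ⟨θ, hθ, h3⟩ := Finset.exists_ne_zero_of_sum_ne_zero
      (s := Finset.univ.erase (irrOne G))
      (f := fun χ => u χ (1 : (ZMod p)ˣ) * u χ (1 : (ZMod p)ˣ)) (by omega)
    refine ⟨u θ (1 : (ZMod p)ˣ), (nonexceptional hz hP hK hu (left_ne_zero_of_mul h3) (hc θ)).1,
      fun _ => θ, fun a b => by simp [hH], fun a b => by rw [if_pos (by rw [hH]; trivial), hc],
      fun _ => (Finset.mem_erase.mp hθ).1, fun χ _ => hc χ⟩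
  · obtain ⟨ε, hε, μ, hinj, h1, h2⟩ := exceptional_of_ne_top hz hP hK hKc hu hH
    have hout : ∀ χ (b : (ZMod p)ˣ), u χ b =
        u χ ((b : (ZMod p)ˣ ⧸ autH hz).out : (ZMod p)ˣ) := fun χ b =>
      u_mul hz hK hu χ (by rw [← QuotientGroup.eq, QuotientGroup.out_eq'])
    refine ⟨ε, hε, fun a => μ a, fun a b => by rw [hinj.eq_iff, QuotientGroup.eq],
      fun a b => by rw [hout, h1]; simp only [QuotientGroup.eq], fun a h => ?_, fun χ h b => ?_⟩
    · have hnt : Nontrivial ((ZMod p)ˣ ⧸ autH hz) := by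
        rw [← Finite.one_lt_card_iff_nontrivial]
        exact one_lt_index_of_ne_top hH
      obtain ⟨j, hj⟩ := exists_ne (a : (ZMod p)ˣ ⧸ autH hz)
      have h3 := h1 a j
      rw [if_neg hj.symm, show μ a = irrOne G from h, u_irrOne hu] at h3
      exact one_ne_zero h3
    · rw [hout, hout χ 1]
      exact h2 χ (fun i => by rw [← QuotientGroup.out_eq' i]; exact h _) _ _

end

/-- Brauer's theorem on the principal block of a group with a Sylow subgroup of order `p`. -/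
theorem nonempty_data {G : Type*} [Group G] [Finite G] {p : ℕ} [Fact p.Prime] {z : G}
    (hz : orderOf z = p) (hP : ¬ p ^ 2 ∣ Nat.card G) : Nonempty (Data G p z) := by
  classical
  obtain ⟨K, hK, hKc⟩ := exists_K hz hP
  let := Fintype.ofFinite K
  choose u hu using fun (χ : IrrCharacter G) (b : ZMod p) =>
    four_dd_int hz hK (irr_isCharacter χ.2) b
  obtain ⟨ε, hε, θ, hθ, huθ, hθ1, hc⟩ := exists_theta hz hP hK hKc hu
  let A : Finset (IrrCharacter G) :=
    Finset.univ.filter fun χ => (∀ a, θ a ≠ χ) ∧ u χ (1 : (ZMod p)ˣ) ≠ 0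
  have hA : ∀ χ, χ ∈ A ↔ (∀ a, θ a ≠ χ) ∧ u χ (1 : (ZMod p)ˣ) ≠ 0 := fun χ => by simp [A]
  have hNE := fun χ (h : χ ∈ A) => nonexceptional hz hP hK hu ((hA χ).mp h).2 (hc χ ((hA χ).mp h).1)
  have hθA : ∀ a, θ a ∉ A := fun a h => ((hA _).mp h).1 a rfl
  -- splitting of sums
  have hsplit : ∀ (b : (ZMod p)ˣ) (f : IrrCharacter G → ℂ), ∑ χ, (u χ b : ℂ) * f χ =
      ∑ χ ∈ A, (u χ (1 : (ZMod p)ˣ) : ℂ) * f χ + ε * f (θ b) := fun b f => by
    rw [← Finset.sum_subset (Finset.subset_univ (insert (θ b) A)), Finset.sum_insert (hθA b),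
      huθ, if_pos (by simp), add_comm]
    · congr 1
      exact Finset.sum_congr rfl fun χ h => by rw [hc χ ((hA χ).mp h).1]
    · intro χ _ h
      rw [Finset.mem_insert, not_or, hA, not_and, not_not] at h
      by_cases h1 : ∀ a, θ a ≠ χ
      · rw [hc χ h1, h.2 h1, Int.cast_zero, zero_mul]
      · push Not at h1
        obtain ⟨a, rfl⟩ := h1
        rw [huθ, if_neg (fun h2 => h.1 ((hθ a b).mpr h2)), Int.cast_zero, zero_mul]
  have hε2 : (ε : ℂ) * ε = 1 := by rcases hε with rfl | rfl <;> simp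
  have hsq : ∑ χ ∈ A, (u χ (1 : (ZMod p)ˣ) : ℂ) * u χ (1 : (ZMod p)ˣ) = A.card := by
    rw [Finset.card_eq_sum_ones, Nat.cast_sum]
    refine Finset.sum_congr rfl fun χ h => ?_
    rcases (hNE χ h).1 with h | h <;> rw [h] <;> simp
  have hcard : A.card = Nat.card (autH hz) := by
    have h1 := gram hz hK hKc hu 1 1
    rw [if_pos (by simp)] at h1
    have h2 := hsplit 1 fun χ => u χ (1 : (ZMod p)ˣ)
    rw [hsq, huθ, if_pos (by simp), hε2] at h2
    have h3 : (A.card : ℂ) + 1 = Nat.card (autH hz) + 1 := by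
      rw [← h2]; exact_mod_cast h1
    exact_mod_cast add_right_cancel h3
  refine ⟨{
    K := K, mem_K := hK, card_K := hKc, H := autH hz, mem_H := mem_autH hz, card_H := card_autH hz
    A := A, δ := fun χ => u χ (1 : (ZMod p)ˣ), θ := θ, ε := ε, card_A := hcard
    one_mem_A := (hA _).mpr ⟨hθ1, by rw [u_irrOne hu]; exact one_ne_zero⟩
    δ_one := u_irrOne hu 1, δ_sign := fun χ h => (hNE χ h).1, ε_sign := hε, θ_notMem := hθA
    θ_eq_iff := hθ, apply_A := fun χ h => (hNE χ h).2, apply_θ := ?_, rel := ?_, other := ?_ }⟩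
  · intro a j hj y hy
    have hj' : (j : ZMod p) ≠ 0 := by rwa [Ne, ZMod.natCast_eq_zero_iff]
    have h1 := sum_u_sing hz hK hKc hu a hj' hy
    have h2 := dvd_orderOf_zp_mul hz hj' ((hK y).mp hy).1 ((hK y).mp hy).2
    rw [hsplit, Finset.sum_congr rfl fun χ h => by rw [(hNE χ h).2 _ h2], hsq, hcard,
      zp_natCast hz] at h1
    linear_combination (ε : ℂ) * h1 - (θ a : G → ℂ) (z ^ j * y) * hε2
  · intro a g hg
    rw [← hsplit a fun χ => (χ : G → ℂ) g]
    exact sum_u_reg hz hK hu a hg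
  · intro χ h1 h2 j hj
    have hj' : (j : ZMod p) ≠ 0 := by rwa [Ne, ZMod.natCast_eq_zero_iff]
    have h3 : ∀ a, θ a ≠ χ := fun a => (h2 a).symm
    rw [hA, not_and, not_not] at h1
    have h4 : dd z K χ (j : ZMod p) = 0 :=
      eq_of_four_const (fun b => by rw [hu, hc χ h3, h1 h3, Int.cast_zero]) hj'
    rw [dd, zp_natCast hz, mul_eq_zero] at h4
    rw [finsum_eq_sum_of_fintype]
    exact h4.resolve_left (inv_ne_zero card_K_ne_zero)

end CL.D1
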