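import Cfsg.Agent.Base
import Cfsg.Agent.Char.Congr
import Cfsg.Agent.Char.Burnside
import Cfsg.Agent.D1.Main

/-!
# Degrees of the characters in the principal block (Sylow subgroup of order `p`)
-/

set_option autoImplicit false

open Cfsg CL.Char Subgroup
open scoped ComplexConjugate

namespace CL.D1

variable {p : ℕ} [hp : Fact p.Prime]

open scoped Classical in
theorem sum_units_eq_card_mul (H : Subgroup (ZMod p)ˣ) (f : (ZMod p)ˣ → ℂ)
    (hf : ∀ a b, a⁻¹ * b ∈ H → f a = f b) :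
    ∑ a, f a = Nat.card H * ∑ i : (ZMod p)ˣ ⧸ H, f i.out := by
  rw [← Finset.sum_fiberwise (s := Finset.univ) (g := fun a : (ZMod p)ˣ => (a : (ZMod p)ˣ ⧸ H)),
    Finset.mul_sum]
  refine Finset.sum_congr rfl fun i _ => ?_
  rw [Finset.sum_congr rfl (g := fun _ => f i.out) fun a ha => hf _ _ (by
    rw [← QuotientGroup.eq, QuotientGroup.out_eq']; simpa using ha), Finset.sum_const,
    nsmul_eq_mul]
  congr 2
  rw [← Fintype.card_subtype, ← Nat.card_eq_fintype_card]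
  refine Nat.card_congr ⟨fun a => ⟨i.out⁻¹ * a, ?_⟩, fun h => ⟨i.out * h, ?_⟩,
    fun a => by simp, fun h => by simp⟩
  · rw [← QuotientGroup.eq, QuotientGroup.out_eq']; exact a.2.symm
  · rw [QuotientGroup.mk_mul_of_mem _ h.2, QuotientGroup.out_eq']

theorem eta_congr (H : Subgroup (ZMod p)ˣ) {a b : (ZMod p)ˣ} (h : a⁻¹ * b ∈ H) (j : ZMod p) :
    eta H ((a : ZMod p) * j) = eta H ((b : ZMod p) * j) := by
  rw [← eta_mul_left H h, ← mul_assoc, ← Units.val_mul, mul_right_comm, inv_mul_cancel, one_mul]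

open scoped Classical in
theorem sum_quot_eta (H : Subgroup (ZMod p)ˣ) {j : ZMod p} (hj : j ≠ 0) :
    ∑ i : (ZMod p)ˣ ⧸ H, eta H ((i.out : (ZMod p)ˣ) * j) = -1 := by
  have h1 := sum_units_eta H hj
  rw [sum_units_eq_card_mul H _ fun a b h => eta_congr H h j] at h1
  have h2 : (Nat.card H : ℂ) ≠ 0 := Nat.cast_ne_zero.mpr Nat.card_pos.ne'
  apply mul_left_cancel₀ h2
  rw [h1]; ring

theorem irr_isIntegral_index_mul_div {G : Type*} [Group G] [Finite G] {χ : G → ℂ}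
    (hχ : IsIrrCharacter G χ) (g : G) :
    IsIntegral ℤ (((centralizer ({g} : Set G)).index : ℂ) * χ g / deg χ) := by
  obtain ⟨n, ρ, hρ, rfl⟩ := hχ
  rw [deg_character]
  exact isIntegral_index_mul_character_div ρ g

namespace Data

variable {G : Type*} [Group G] [Finite G] {z : G} (D : Data G p z)

theorem card_H_pos : 0 < Nat.card D.H := Nat.card_pos

theorem card_H_mul_index : Nat.card D.H * D.H.index = p - 1 := card_mul_index D.H

theorem card_H_lt : Nat.card D.H < p := by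
  have h1 := D.card_H_mul_index
  have h2 : 0 < D.H.index := Nat.pos_of_ne_zero Subgroup.index_ne_zero_of_finite
  have h3 := hp.out.two_le
  have : Nat.card D.H ≤ p - 1 := h1 ▸ Nat.le_mul_of_pos_right _ h2
  omega

theorem ε_mul_self : D.ε * D.ε = 1 := by rcases D.ε_sign with h | h <;> simp [h]

theorem δ_mul_self {χ : IrrCharacter G} (h : χ ∈ D.A) : D.δ χ * D.δ χ = 1 := by
  rcases D.δ_sign χ h with h | h <;> simp [h]

theorem not_dvd_card_K (hP : ¬ p ^ 2 ∣ Nat.card G) : ¬ p ∣ Nat.card D.K := fun h => hP (by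
  rw [pow_two]
  exact (Nat.mul_dvd_mul_right h p).trans (D.card_K ▸ card_subgroup_dvd_card _))

theorem apply_θ_z (a : (ZMod p)ˣ) : (D.θ a : G → ℂ) z = -D.ε * eta D.H a := by
  simpa using D.apply_θ a 1 hp.out.not_dvd_one 1 D.K.one_mem

theorem deg_A_modEq (hz : orderOf z = p) {χ : IrrCharacter G} (h : χ ∈ D.A) :
    (deg (χ : G → ℂ) : ℤ) ≡ D.δ χ [ZMOD p] :=
  (gen_modEq_apply_one (gen_of_irr χ.2) (x := z) (a := 1) hp.out
    (by rw [pow_one, ← hz, pow_orderOf_eq_one]) (D.apply_A χ h z (hz ▸ dvd_rfl))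
    (by rw [Int.cast_natCast, irr_cast_deg χ.2])).symm

/-- the degree equation -/
theorem degree_eq (a : (ZMod p)ˣ) :
    ∑ χ ∈ D.A, D.δ χ * deg (χ : G → ℂ) + D.ε * deg (D.θ a : G → ℂ) = 0 := by
  have := D.rel a 1 (by rw [orderOf_one]; exact hp.out.not_dvd_one)
  simp only [← fun χ : IrrCharacter G => irr_cast_deg χ.2] at this
  exact_mod_cast this

theorem θ_apply_eq (a b : (ZMod p)ˣ) {g : G} (hg : ¬ p ∣ orderOf g) :
    (D.θ a : G → ℂ) g = (D.θ b : G → ℂ) g := by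
  have h1 := D.rel a g hg
  have h2 := D.rel b g hg
  have h3 : (D.ε : ℂ) * D.ε = 1 := by exact_mod_cast D.ε_mul_self
  linear_combination (D.ε : ℂ) * h1 - (D.ε : ℂ) * h2 -
    ((D.θ a : G → ℂ) g - (D.θ b : G → ℂ) g) * h3

theorem deg_θ_eq (a b : (ZMod p)ˣ) : deg (D.θ a : G → ℂ) = deg (D.θ b : G → ℂ) := by
  have := D.θ_apply_eq a b (g := 1) (by rw [orderOf_one]; exact hp.out.not_dvd_one)
  rw [← irr_cast_deg (D.θ a).2, ← irr_cast_deg (D.θ b).2] at this
  exact_mod_cast this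

theorem sum_δ_mul_deg_modEq (hz : orderOf z = p) {s : Finset (IrrCharacter G)} (hs : s ⊆ D.A) :
    ∑ χ ∈ s, D.δ χ * deg (χ : G → ℂ) ≡ s.card [ZMOD p] := by
  rw [Finset.card_eq_sum_ones, Nat.cast_sum]
  refine Int.ModEq.sum fun χ h => ?_
  have := (D.deg_A_modEq hz (hs h)).mul_left (D.δ χ)
  rwa [D.δ_mul_self (hs h)] at this

theorem deg_θ_modEq (hz : orderOf z = p) (a : (ZMod p)ˣ) :
    (deg (D.θ a : G → ℂ) : ℤ) ≡ -D.ε * Nat.card D.H [ZMOD p] := by
  have h1 := D.sum_δ_mul_deg_modEq hz (Finset.Subset.refl _)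
  rw [D.card_A, eq_neg_of_add_eq_zero_left (D.degree_eq a)] at h1
  have h2 := h1.mul_left (-D.ε)
  rwa [neg_mul_neg, ← mul_assoc, D.ε_mul_self, one_mul] at h2

theorem deg_A_dvd (hz : orderOf z = p) {χ : IrrCharacter G} (h : χ ∈ D.A) :
    deg (χ : G → ℂ) ∣ (centralizer ({z} : Set G)).index := by
  have h1 := irr_isIntegral_index_mul_div χ.2 z
  rw [D.apply_A χ h z (hz ▸ dvd_rfl)] at h1
  refine nat_dvd_of_isIntegral_div (irr_deg_pos χ.2).ne' ?_
  rcases D.δ_sign χ h with h2 | h2 <;> rw [h2] at h1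
  · simpa using h1
  · simpa [neg_div] using h1.neg

theorem deg_θ_dvd (a : (ZMod p)ˣ) :
    deg (D.θ a : G → ℂ) ∣ (centralizer ({z} : Set G)).index := by
  classical
  have h1 : IsIntegral ℤ (∑ i : (ZMod p)ˣ ⧸ D.H,
      ((centralizer ({z} : Set G)).index : ℂ) * (D.θ i.out : G → ℂ) z /
        deg (D.θ i.out : G → ℂ)) :=
    IsIntegral.sum _ fun i _ => irr_isIntegral_index_mul_div (D.θ _).2 z
  have h2 := sum_quot_eta D.H (one_ne_zero (α := ZMod p))
  simp only [mul_one] at h2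
  simp only [D.apply_θ_z, D.deg_θ_eq _ a, ← Finset.sum_div, ← Finset.mul_sum, h2] at h1
  refine nat_dvd_of_isIntegral_div (irr_deg_pos (D.θ a).2).ne' ?_
  rcases D.ε_sign with h2 | h2 <;> rw [h2] at h1
  · simpa using h1
  · simpa [neg_div] using h1.neg

open scoped Classical in
/-- the exceptional characters as a finset -/
noncomputable def E : Finset (IrrCharacter G) := Finset.univ.image D.θ

theorem mem_E {χ : IrrCharacter G} : χ ∈ D.E ↔ ∃ a, D.θ a = χ := by simp [E]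

theorem θ_out (a : (ZMod p)ˣ) : D.θ (a : (ZMod p)ˣ ⧸ D.H).out = D.θ a := by
  rw [D.θ_eq_iff, ← QuotientGroup.eq, QuotientGroup.out_eq']

open scoped Classical in
theorem sum_E {M : Type*} [AddCommMonoid M] (f : IrrCharacter G → M) :
    ∑ χ ∈ D.E, f χ = ∑ i : (ZMod p)ˣ ⧸ D.H, f (D.θ i.out) := by
  symm
  refine Finset.sum_bij (fun i _ => D.θ i.out) (fun i _ => D.mem_E.mpr ⟨_, rfl⟩)
    (fun i _ j _ h => ?_) (fun χ h => ?_) fun _ _ => rfl
  · rwa [D.θ_eq_iff, ← QuotientGroup.eq, QuotientGroup.out_eq', QuotientGroup.out_eq'] at h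
  · obtain ⟨a, rfl⟩ := D.mem_E.mp h
    exact ⟨a, Finset.mem_univ _, D.θ_out a⟩

theorem card_E : D.E.card = D.H.index := by
  classical
  rw [Finset.card_eq_sum_ones, D.sum_E, Finset.sum_const, Finset.card_univ, smul_eq_mul, mul_one,
    ← Nat.card_eq_fintype_card, index_eq_card]

theorem disjoint_A_E : Disjoint D.A D.E := by
  rw [Finset.disjoint_right]
  intro χ h
  obtain ⟨a, rfl⟩ := D.mem_E.mp h
  exact D.θ_notMem a

theorem sum_sq_le (a : (ZMod p)ˣ) :
    ∑ χ ∈ D.A, deg (χ : G → ℂ) ^ 2 + D.H.index * deg (D.θ a : G → ℂ) ^ 2 ≤ Nat.card G := by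
  classical
  have h1 : ∑ χ ∈ D.E, deg (χ : G → ℂ) ^ 2 = D.H.index * deg (D.θ a : G → ℂ) ^ 2 := by
    rw [← D.card_E, ← smul_eq_mul, ← Finset.sum_const]
    refine Finset.sum_congr rfl fun χ h => ?_
    obtain ⟨b, rfl⟩ := D.mem_E.mp h
    rw [D.deg_θ_eq b a]
  rw [← h1, ← Finset.sum_union D.disjoint_A_E, ← sum_deg_sq]
  exact Finset.sum_le_sum_of_subset (Finset.subset_univ _)

/-- the values of `θ a` on all `p`-singular elements -/
theorem exists_apply_θ (hz : orderOf z = p) (hP : ¬ p ^ 2 ∣ Nat.card G) {g : G}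
    (hg : p ∣ orderOf g) :
    ∃ j : (ZMod p)ˣ, ∀ a, (D.θ a : G → ℂ) g = -D.ε * eta D.H ((a : ZMod p) * j) := by
  obtain ⟨x, j, y, hj, h1, h2, h3⟩ := exists_conj_eq_zp_mul hz hP hg
  refine ⟨Units.mk0 j hj, fun a => ?_⟩
  have := D.apply_θ a _ (not_dvd_val hj) y ((D.mem_K y).mpr ⟨h1, h2⟩)
  rw [ZMod.natCast_zmod_val] at this
  rw [← irr_isClassFunction (D.θ a).2 g x, h3]
  exact this

theorem eq_bot_of_centralizer (hz : orderOf z = p)
    (hC : centralizer ({z} : Set G) = zpowers z) : D.K = ⊥ := by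
  have := D.card_K
  rw [hC, card_zpowers_eq hz] at this
  exact Subgroup.eq_bot_of_card_eq _ (by
    have h := hp.out.pos
    exact Nat.eq_of_mul_eq_mul_right h (by rw [this, one_mul]))

theorem other_apply_eq_zero (hz : orderOf z = p) (hP : ¬ p ^ 2 ∣ Nat.card G) (hK : D.K = ⊥)
    {χ : IrrCharacter G} (h1 : χ ∉ D.A) (h2 : χ ∉ D.E) {g : G} (hg : p ∣ orderOf g) :
    (χ : G → ℂ) g = 0 := by
  obtain ⟨x, j, y, hj, h3, h4, h5⟩ := exists_conj_eq_zp_mul hz hP hg
  have h6 : y = 1 := by rw [← mem_bot, ← hK]; exact (D.mem_K y).mpr ⟨h3, h4⟩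
  have h7 := D.other χ h1 (fun a h => h2 (D.mem_E.mpr ⟨a, h.symm⟩)) _ (not_dvd_val hj)
  rw [hK, finsum_unique] at h7
  rw [← irr_isClassFunction χ.2 g x, h5, h6]
  exact h7

theorem dvd_deg_other (hz : orderOf z = p) (hP : ¬ p ^ 2 ∣ Nat.card G) (hK : D.K = ⊥)
    {χ : IrrCharacter G} (h1 : χ ∉ D.A) (h2 : χ ∉ D.E) : p ∣ deg (χ : G → ℂ) :=
  char_prime_dvd_deg_of_eq_zero (irr_isCharacter χ.2) (x := z) (a := 1) hp.out
    (by rw [pow_one, ← hz, pow_orderOf_eq_one]) (D.other_apply_eq_zero hz hP hK h1 h2 (hz ▸ dvd_rfl))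

theorem index_centralizer_eq :
    (centralizer ({z} : Set G)).index =
      Nat.card D.H * (normalizer ((zpowers z : Subgroup G) : Set G)).index := by
  rw [D.card_H, relIndex_mul_index]
  intro x hx
  rw [mem_centralizer_singleton_iff_commute] at hx
  rw [mem_normalizer_iff]
  intro y
  constructor
  · rintro ⟨k, rfl⟩
    rw [← (hx.zpow_left k).eq, mul_inv_cancel_right]
    exact zpow_mem_zpowers z k
  · rintro ⟨k, hk⟩
    have : y = z ^ k := by
      have h1 := (hx.zpow_left k).eq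
      simp only at hk
      rw [hk] at h1
      rw [hk]
      simpa [mul_assoc] using h1
    exact ⟨k, this.symm⟩

theorem card_eq : Nat.card G = p * Nat.card D.K * Nat.card D.H *
    (normalizer ((zpowers z : Subgroup G) : Set G)).index := by
  rw [← Subgroup.card_mul_index (centralizer ({z} : Set G)), ← D.card_K, D.index_centralizer_eq]
  ring

end Data

end CL.D1
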