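import Cfsg.Agent.Base
import Cfsg.Agent.Blocks.TraceOrth
import Cfsg.Agent.Blocks.Center
import Cfsg.Agent.D1.Degrees

/-!
# `A ∪ E` is the principal block
-/

set_option autoImplicit false

open Cfsg CL.Char CL.Blocks Subgroup
open scoped ComplexConjugate

namespace CL.D1.Data

variable {p : ℕ} [hp : Fact p.Prime] {G : Type*} [Group G] [Finite G] {z : G} (D : Data G p z)
  {M : Ideal AlgInt}

theorem mem_of_mem_principalBlock (hz : orderOf z = p) (hP : ¬ p ^ 2 ∣ Nat.card G)
    (hM : IsPModular p M) {χ : IrrCharacter G} (h : χ ∈ principalBlock M G) :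
    χ ∈ D.A ∨ χ ∈ D.E := by
  have := hM.2.1
  by_contra hn
  rw [not_or] at hn
  let := Fintype.ofFinite D.K
  have h1 := D.other χ hn.1 (fun a h => hn.2 (D.mem_E.mpr ⟨a, h.symm⟩)) 1 hp.out.not_dvd_one
  rw [finsum_eq_sum_of_fintype, pow_one] at h1
  have h2 : ∀ y : D.K, MemLocalIdeal M (1 - (χ : G → ℂ) (z * y) / (χ : G → ℂ) 1) := fun y => by
    have h3 := h (z * y)
    have h4 : ¬ p ∣ (centralizer ({z * y} : Set G)).index := fun h5 => hP (by
      have h6 : z ∈ centralizer ({z * (y : G)} : Set G) := by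
        rw [mem_centralizer_singleton_iff_commute]
        exact ((Commute.refl z).mul_right ((D.mem_K y).mp y.2).1).symm
      have h7 : p ∣ Nat.card (centralizer ({z * (y : G)} : Set G)) := by
        exact hz.symm.dvd.trans (Subgroup.orderOf_dvd_natCard _ h6)
      rw [pow_two, ← Subgroup.card_mul_index (centralizer ({z * (y : G)} : Set G))]
      exact Nat.mul_dvd_mul h7 h5)
    rw [← memLocalIdeal_mul_unit_iff (memLocalRing_natCast _) (not_memLocalIdeal_natCast hM h4)]
    convert h3 using 1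
    simp only [centralChar]
    ring
  have h3 := memLocalIdeal_sum Finset.univ fun y _ => h2 y
  rw [Finset.sum_sub_distrib, ← Finset.sum_div, h1, zero_div, sub_zero, Finset.sum_const,
    Finset.card_univ, nsmul_eq_mul, mul_one, ← Nat.card_eq_fintype_card,
    memLocalIdeal_natCast hM] at h3
  exact D.not_dvd_card_K hP h3

theorem not_dvd_deg_θ (hz : orderOf z = p) (a : (ZMod p)ˣ) : ¬ p ∣ deg (D.θ a : G → ℂ) := by
  intro h
  have h1 := (D.deg_θ_modEq hz a).dvd
  have h2 : (p : ℤ) ∣ -D.ε * Nat.card D.H := by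
    have := dvd_add h1 (Int.natCast_dvd_natCast.mpr h)
    rwa [sub_add_cancel] at this
  have h3 : (p : ℤ) ∣ Nat.card D.H := by
    rcases D.ε_sign with h | h <;> rw [h] at h2 <;> simpa using h2
  exact absurd (Nat.le_of_dvd D.card_H_pos (Int.natCast_dvd_natCast.mp h3))
    (not_le.mpr D.card_H_lt)

theorem not_dvd_deg_A (hz : orderOf z = p) {χ : IrrCharacter G} (hχ : χ ∈ D.A) :
    ¬ p ∣ deg (χ : G → ℂ) := by
  intro h
  have h1 := (D.deg_A_modEq hz hχ).dvd
  have h2 : (p : ℤ) ∣ D.δ χ := by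
    have := dvd_add h1 (Int.natCast_dvd_natCast.mpr h)
    rwa [sub_add_cancel] at this
  have h3 : (p : ℤ) ∣ 1 := by
    rcases D.δ_sign χ hχ with h | h <;> rw [h] at h2 <;> simpa using h2
  exact hp.out.not_dvd_one (Int.natCast_dvd_natCast.mp h3)

theorem sameBlock_θ (hz : orderOf z = p) (hP : ¬ p ^ 2 ∣ Nat.card G)
    (hM : IsPModular p M) (a b : (ZMod p)ˣ) : SameBlock M (D.θ a : G → ℂ) (D.θ b : G → ℂ) := by
  classical
  have := hM.2.1
  intro g
  have h1 : MemLocalIdeal M ((D.θ a : G → ℂ) g - (D.θ b : G → ℂ) g) := by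
    by_cases hg : p ∣ orderOf g
    · obtain ⟨j, hj⟩ := D.exists_apply_θ hz hP hg
      rw [hj, hj, ← mul_sub, eta_eq, eta_eq]
      refine memLocalIdeal_mul_left (memLocalRing_neg (memLocalRing_intCast _))
        (memLocalIdeal_sum_sub_sum _ fun h _ => memLocalIdeal_sub_trans (y := 1) ?_ ?_)
      · exact memLocalIdeal_sub_one_of_pow_eq_one hM (k := 1) (by rw [pow_one, ee_pow_p])
      · exact memLocalIdeal_one_sub_of_pow_eq_one hM (k := 1) (by rw [pow_one, ee_pow_p])
    · rw [D.θ_apply_eq a b hg, sub_self]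
      exact memLocalIdeal_zero
  simp only [centralChar]
  rw [← irr_cast_deg (D.θ a).2, ← irr_cast_deg (D.θ b).2, D.deg_θ_eq b a, ← sub_div, ← mul_sub]
  exact memLocalIdeal_div (memLocalIdeal_mul_left (memLocalRing_natCast _) h1)
    (memLocalRing_natCast _) (not_memLocalIdeal_natCast hM (D.not_dvd_deg_θ hz a))

theorem mem_principalBlock_iff (hz : orderOf z = p) (hP : ¬ p ^ 2 ∣ Nat.card G)
    (hM : IsPModular p M) (χ : IrrCharacter G) :
    χ ∈ principalBlock M G ↔ χ ∈ D.A ∨ χ ∈ D.E := by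
  classical
  have := hM.2.1
  refine ⟨D.mem_of_mem_principalBlock hz hP hM, ?_⟩
  let A₀ := D.A.filter (· ∈ principalBlock M G)
  let E₀ := D.E.filter (· ∈ principalBlock M G)
  have hB : principalBlock M G = ((A₀ ∪ E₀ : Finset (IrrCharacter G)) : Set (IrrCharacter G)) := by
    ext φ
    simp only [A₀, E₀, Finset.coe_union, Set.mem_union, Finset.coe_filter, Set.mem_ofPred_eq]
    exact ⟨fun h => (D.mem_of_mem_principalBlock hz hP hM h).imp (⟨·, h⟩) (⟨·, h⟩),
      fun h => h.elim (·.2) (·.2)⟩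
  have h1 := sum_mul_conj_eq_zero_of_regular_singular hM
    (memLocalRing_blockCoeff (isPBlock_principalBlock (M := M) (G := G))) (x := 1) (y := z)
    (by rw [orderOf_one]; exact hp.out.not_dvd_one) (hz ▸ dvd_rfl)
  have hdisj : Disjoint A₀ E₀ := Finset.disjoint_filter_filter D.disjoint_A_E
  rw [hB, finsum_mem_coe_finset, Finset.sum_union hdisj] at h1
  have h2 : ∑ φ ∈ A₀, (φ : G → ℂ) 1 * conj ((φ : G → ℂ) z) =
      ((∑ φ ∈ A₀, D.δ φ * deg (φ : G → ℂ) : ℤ) : ℂ) := by
    push_cast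
    refine Finset.sum_congr rfl fun φ h => ?_
    rw [D.apply_A φ (Finset.mem_filter.mp h).1 z (hz ▸ dvd_rfl), map_intCast, irr_cast_deg φ.2,
      mul_comm]
  have h3 := D.sum_δ_mul_deg_modEq hz (s := A₀) (Finset.filter_subset _ _)
  have h4 : 0 < A₀.card := Finset.card_pos.mpr
    ⟨_, Finset.mem_filter.mpr ⟨D.one_mem_A, irrOne_mem_principalBlock⟩⟩
  have h5 : A₀.card ≤ D.A.card := Finset.card_le_card (Finset.filter_subset _ _)
  have h6 := D.card_H_lt
  rw [← D.card_A] at h6
  rw [h2] at h1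
  by_cases hθ : D.θ 1 ∈ principalBlock M G
  · have hθ' : ∀ φ ∈ D.E, φ ∈ principalBlock M G := fun φ h => by
      obtain ⟨a, rfl⟩ := D.mem_E.mp h
      exact mem_block_of_sameBlock isPBlock_principalBlock hθ (D.sameBlock_θ hz hP hM 1 a)
    have h7 : E₀ = D.E := Finset.filter_true_of_mem hθ'
    have h8 := sum_quot_eta D.H (one_ne_zero (α := ZMod p))
    simp only [mul_one] at h8
    rw [h7, D.sum_E] at h1
    simp only [D.apply_θ_z, ← fun a => irr_cast_deg (D.θ a).2, D.deg_θ_eq _ 1, ← Finset.mul_sum,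
      ← map_sum, h8] at h1
    simp only [mul_neg, mul_one, neg_neg, map_intCast] at h1
    have h9 : ∑ φ ∈ A₀, D.δ φ * deg (φ : G → ℂ) + deg (D.θ 1 : G → ℂ) * D.ε = 0 := by
      exact_mod_cast h1
    have h10 := D.degree_eq 1
    have h11 := D.sum_δ_mul_deg_modEq hz (Finset.Subset.refl _)
    rw [show ∑ φ ∈ D.A, D.δ φ * deg (φ : G → ℂ) = ∑ φ ∈ A₀, D.δ φ * deg (φ : G → ℂ) by
      linarith] at h11
    have h12 : A₀.card = D.A.card :=
      Nat.ModEq.eq_of_lt_of_lt (Int.natCast_modEq_iff.mp (h3.symm.trans h11)) (by omega) h6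
    have h13 : A₀ = D.A := Finset.eq_of_subset_of_card_le (Finset.filter_subset _ _) h12.ge
    rintro (h | h)
    · rw [← h13] at h
      exact (Finset.mem_filter.mp h).2
    · exact hθ' χ h
  · have h7 : E₀ = ∅ := Finset.filter_false_of_mem fun φ h h' => by
      obtain ⟨a, rfl⟩ := D.mem_E.mp h
      exact hθ (mem_block_of_sameBlock isPBlock_principalBlock h' (D.sameBlock_θ hz hP hM a 1))
    rw [h7, Finset.sum_empty, add_zero, Int.cast_eq_zero] at h1
    rw [h1] at h3
    have h8 : p ∣ A₀.card := Int.natCast_dvd_natCast.mp (by simpa using h3.dvd)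
    have := Nat.le_of_dvd h4 h8
    omega

theorem principalBlock_eq [DecidableEq (IrrCharacter G)] (hz : orderOf z = p)
    (hP : ¬ p ^ 2 ∣ Nat.card G) (hM : IsPModular p M) :
    principalBlock M G = ((D.A ∪ D.E : Finset (IrrCharacter G)) : Set (IrrCharacter G)) := by
  ext χ
  rw [D.mem_principalBlock_iff hz hP hM, Finset.mem_coe, Finset.mem_union]

end CL.D1.Data
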