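import Cfsg.Agent.Base
import Cfsg.Agent.Char.Eigen
import Cfsg.Agent.Blocks.Sharp
import Cfsg.Agent.D1.Block

/-!
# Further restrictions on the degrees in the principal block (Stanton, determinant,
block intersection)
-/

set_option autoImplicit false

open Cfsg CL.Char CL.Blocks Subgroup Module
open scoped ComplexConjugate

namespace CL.D1

theorem geom_root {x : ℂ} {m : ℕ} (h : x ^ m = 1) :
    ∑ k ∈ Finset.range m, x ^ k = if x = 1 then (m : ℂ) else 0 := by
  split_ifs with h1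
  · simp [h1]
  · have := geom_sum_mul x m
    rw [h, sub_self] at this
    exact (mul_eq_zero.mp this).resolve_right (sub_ne_zero.mpr h1)

open scoped Classical in
theorem mul_card_eq {ι : Type*} [Fintype ι] (l : ι → ℂ) {m : ℕ} (hm : m ≠ 0)
    (hl : ∀ i, l i ^ m = 1) {ζ : ℂ} (hζ : ζ ^ m = 1) :
    (m : ℂ) * (Finset.univ.filter fun i => l i = ζ).card =
      ∑ k ∈ Finset.range m, (∑ i, l i ^ k) * ζ⁻¹ ^ k := by
  have h0 : ζ ≠ 0 := by rintro rfl; simp [hm] at hζ
  simp only [Finset.sum_mul, ← mul_pow]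
  rw [Finset.sum_comm, Finset.card_filter]
  push_cast
  rw [Finset.mul_sum]
  refine Finset.sum_congr rfl fun i _ => ?_
  rw [geom_root (by rw [mul_pow, hl, inv_pow, hζ, inv_one, one_mul])]
  simp only [mul_inv_eq_one₀ h0]
  split_ifs <;> simp

variable {G : Type*} [Group G] [Finite G]

theorem exists_eig (hG : commutator G = ⊤) {χ : G → ℂ} (hχ : IsCharacter G χ) (g : G) :
    ∃ l : Fin (deg χ) → ℂ, (∀ i, l i ^ orderOf g = 1) ∧ (∀ k : ℕ, χ (g ^ k) = ∑ i, l i ^ k) ∧
      ∏ i, l i = 1 := by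
  obtain ⟨n, ρ, rfl⟩ := hχ
  rw [deg_character]
  obtain ⟨b, l, h1, h2⟩ := exists_eigenbasis_complex ρ g
  refine ⟨l, h1, fun k => trace_eq_sum_of_eigenbasis _ b _
    fun i => rep_pow_apply_of_eigen ρ (h2 i) k, ?_⟩
  rw [← det_eq_prod_of_eigenbasis _ b l h2]
  let f : G →* ℂ := (LinearMap.det : ((Fin n → ℂ) →ₗ[ℂ] (Fin n → ℂ)) →* ℂ).comp ρ
  have h3 : commutator G ≤ f.toHomUnits.ker := Abelianization.commutator_subset_ker _
  have h4 : f.toHomUnits g = 1 := h3 (hG ▸ mem_top g)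
  exact congrArg Units.val h4

variable {p : ℕ} [hp : Fact p.Prime] {z : G}

/-- Stanton's lemma -/
theorem stanton (hG : commutator G = ⊤) (hz : orderOf z = p) {χ : G → ℂ} (hχ : IsCharacter G χ)
    {y : G} (hy : Commute z y) (hyp : ¬ p ∣ orderOf y) (hne : χ y ≠ χ 1)
    (h : ∀ j k : ℕ, ¬ p ∣ j → χ (z ^ j * y ^ k) = χ (z ^ j)) : 2 * p ≤ deg χ := by
  classical
  obtain ⟨l, hl, hk, hprod⟩ := exists_eig hG hχ (z * y)
  have hzp : z ^ p = 1 := by rw [← hz, pow_orderOf_eq_one]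
  obtain ⟨a, ha⟩ : ∃ a : ℕ, (z * y) ^ a = z := by
    have := zp_mul_pow hz 1 hy dvd_rfl hyp
    rw [zp_one hz] at this
    exact ⟨_, this⟩
  obtain ⟨b, hb⟩ : ∃ b : ℕ, (z * y) ^ b = y := ⟨a * (p - 1) + 1, by
    rw [pow_succ, pow_mul, ha, ← mul_assoc, ← pow_succ, Nat.sub_add_cancel hp.out.pos, hzp,
      one_mul]⟩
  have hl' : ∀ n, (z * y) ^ n = 1 → ∀ i, l i ^ n = 1 := fun n hn i => by
    obtain ⟨c, rfl⟩ := orderOf_dvd_of_pow_eq_one hn
    rw [pow_mul, hl, one_pow]
  have hα : ∀ i, (l i ^ a) ^ p = 1 := fun i => by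
    rw [← pow_mul]; exact hl' _ (by rw [pow_mul, ha, hzp]) i
  have hβ : ∀ i, (l i ^ b) ^ orderOf y = 1 := fun i => by
    rw [← pow_mul]; exact hl' _ (by rw [pow_mul, hb, pow_orderOf_eq_one]) i
  have hjk : ∀ j k : ℕ, χ (z ^ j * y ^ k) = ∑ i, (l i ^ a) ^ j * (l i ^ b) ^ k := fun j k => by
    simp only [← pow_mul, ← pow_add]
    rw [← hk, pow_add, pow_mul, pow_mul, ha, hb]
  set m := orderOf y with hm
  have hm0 : m ≠ 0 := (orderOf_pos y).ne'
  have hyk : ∀ k : ℕ, χ (y ^ k) = ∑ i, (l i ^ b) ^ k := fun k => by simpa using hjk 0 k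
  have hdvd : ∀ ζ : ℂ, ζ ^ m = 1 → ζ ≠ 1 →
      p ∣ (Finset.univ.filter fun i => l i ^ b = ζ).card := fun ζ h1 h2 => by
    have h0 : ζ ≠ 0 := by rintro rfl; simp [hm0] at h1
    have h3 := mul_card_eq (fun i => l i ^ b) hm0 hβ h1
    have h4 : ∑ j ∈ Finset.range p, ∑ k ∈ Finset.range m, χ (z ^ j * y ^ k) * ζ⁻¹ ^ k =
        (m : ℂ) * (Finset.univ.filter fun i => l i ^ b = ζ).card := by
      rw [Finset.sum_eq_single_of_mem 0 (Finset.mem_range.mpr hp.out.pos), h3]
      · simp only [pow_zero, one_mul, hyk]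
      · intro j hj hj0
        have h5 : ¬ p ∣ j := Nat.not_dvd_of_pos_of_lt (Nat.pos_of_ne_zero hj0)
          (Finset.mem_range.mp hj)
        simp only [h j _ h5, ← Finset.mul_sum]
        rw [geom_root (by rw [inv_pow, h1, inv_one]), if_neg (by simpa using h2), mul_zero]
    have h5 : ∑ j ∈ Finset.range p, ∑ k ∈ Finset.range m, χ (z ^ j * y ^ k) * ζ⁻¹ ^ k =
        (m : ℂ) * (p * (Finset.univ.filter fun i => l i ^ a = 1 ∧ l i ^ b = ζ).card) := by
      simp only [hjk, Finset.sum_mul, mul_assoc, ← mul_pow]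
      rw [Finset.sum_congr rfl fun j _ => Finset.sum_comm, Finset.sum_comm, Finset.card_filter]
      push_cast
      rw [Finset.mul_sum, Finset.mul_sum]
      refine Finset.sum_congr rfl fun i _ => ?_
      rw [← Finset.sum_mul_sum, geom_root (hα i),
        geom_root (by rw [mul_pow, hβ, inv_pow, h1, inv_one, one_mul])]
      simp only [mul_inv_eq_one₀ h0]
      by_cases h6 : l i ^ a = 1 <;> by_cases h7 : l i ^ b = ζ <;> simp [h6, h7, mul_comm]
    rw [h4] at h5
    have h6 := mul_left_cancel₀ (Nat.cast_ne_zero.mpr hm0) h5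
    exact ⟨_, by exact_mod_cast h6⟩
  obtain ⟨i₀, hi₀⟩ : ∃ i, l i ^ b ≠ 1 := by
    by_contra h1
    push Not at h1
    apply hne
    have h2 := hyk 1
    have h3 := hyk 0
    simp only [h1, pow_one, pow_zero] at h2 h3
    rw [h2, h3]
  by_contra hlt
  have hge : ∀ i, l i ^ b ≠ 1 →
      p ≤ (Finset.univ.filter fun i' => l i' ^ b = l i ^ b).card := fun i hi =>
    Nat.le_of_dvd (Finset.card_pos.mpr ⟨i, by simp⟩) (hdvd _ (hβ i) hi)
  have hall : ∀ i, l i ^ b ≠ l i₀ ^ b → l i ^ b = 1 := fun i h1 => by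
    by_contra h2
    have h3 := Finset.card_le_univ ((Finset.univ.filter fun i' => l i' ^ b = l i ^ b) ∪
      (Finset.univ.filter fun i' => l i' ^ b = l i₀ ^ b))
    rw [Finset.card_union_of_disjoint (Finset.disjoint_filter.mpr fun x _ h4 h5 =>
      h1 (h4.symm.trans h5)), Fintype.card_fin] at h3
    have := hge i h2
    have := hge i₀ hi₀
    omega
  have hcard : (Finset.univ.filter fun i' => l i' ^ b = l i₀ ^ b).card = p := by
    obtain ⟨c, hc⟩ := hdvd _ (hβ i₀) hi₀
    have h1 := hge i₀ hi₀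
    have h3 := Finset.card_le_univ (Finset.univ.filter fun i' => l i' ^ b = l i₀ ^ b)
    rw [Fintype.card_fin] at h3
    rw [hc] at h1 h3 ⊢
    have : c = 1 := by
      rcases c with _ | _ | c
      · have := hp.out.pos; omega
      · rfl
      · nlinarith
    rw [this, mul_one]
  have h1 : ∏ i, l i ^ b = 1 := by rw [Finset.prod_pow, hprod, one_pow]
  rw [← Finset.prod_filter_mul_prod_filter_not _ fun i => l i ^ b = l i₀ ^ b,
    Finset.prod_congr rfl (g := fun _ => l i₀ ^ b) fun i hi => (Finset.mem_filter.mp hi).2,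
    Finset.prod_eq_one (s := Finset.univ.filter fun i => ¬ l i ^ b = l i₀ ^ b)
      fun i hi => hall i (Finset.mem_filter.mp hi).2, Finset.prod_const, hcard, mul_one] at h1
  apply hi₀
  have h2 := pow_gcd_eq_one.mpr ⟨h1, hβ i₀⟩
  rwa [((Nat.Prime.coprime_iff_not_dvd hp.out).mpr hyp).gcd_eq_one, pow_one] at h2

omit hp in
/-- an element whose eigenvalues are equidistributed -/
theorem even_of_vanish (hG : commutator G = ⊤) {χ : G → ℂ} (hχ : IsCharacter G χ) {g : G}
    {m t : ℕ} (hm : m ≠ 0) (hg : g ^ (2 * m) = 1) (hd : deg χ = 2 * m * t)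
    (h : ∀ k, 0 < k → k < 2 * m → χ (g ^ k) = 0) : Even t := by
  classical
  obtain ⟨l, hl, hk, hprod⟩ := exists_eig hG hχ g
  have he : 2 * m ≠ 0 := by omega
  have hl' : ∀ i, l i ^ (2 * m) = 1 := fun i => by
    obtain ⟨c, hc⟩ := orderOf_dvd_of_pow_eq_one hg
    rw [hc, pow_mul, hl, one_pow]
  have hω := Complex.isPrimitiveRoot_exp _ he
  set ω := Complex.exp (2 * Real.pi * Complex.I / ((2 * m : ℕ) : ℂ))
  have : NeZero (2 * m) := ⟨he⟩
  choose f hf hf' using fun i => hω.eq_pow_of_pow_eq_one (hl' i)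
  have hc : ∀ j ∈ Finset.range (2 * m), (Finset.univ.filter fun i => f i = j).card = t := by
    intro j hj
    have h1 := mul_card_eq l he hl' (ζ := ω ^ j)
      (by rw [← pow_mul, mul_comm, pow_mul, hω.pow_eq_one, one_pow])
    rw [Finset.sum_eq_single_of_mem 0 (Finset.mem_range.mpr (by omega)) (fun k hk1 hk2 => by
      rw [← hk, h k (by omega) (Finset.mem_range.mp hk1), zero_mul])] at h1
    simp only [pow_zero, Finset.sum_const, Finset.card_univ, Fintype.card_fin, nsmul_eq_mul,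
      mul_one] at h1
    have h2 : (Finset.univ.filter fun i => l i = ω ^ j) = Finset.univ.filter fun i => f i = j := by
      refine Finset.filter_congr fun i _ => ⟨fun h3 => ?_, fun h3 => by rw [← h3, hf']⟩
      exact hω.pow_inj (hf i) (Finset.mem_range.mp hj) ((hf' i).trans h3)
    rw [h2] at h1
    have h3 : 2 * m * (Finset.univ.filter fun i => f i = j).card = 2 * m * t := by
      rw [← hd]; exact_mod_cast h1
    exact Nat.eq_of_mul_eq_mul_left (by omega) h3
  rw [← Finset.prod_fiberwise_of_maps_to (t := Finset.range (2 * m)) (g := f)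
    (fun i _ => Finset.mem_range.mpr (hf i)), Finset.prod_congr rfl (g := fun j => (ω ^ j) ^ t)
    fun j hj => by
      rw [← hc j hj, ← Finset.prod_const]
      exact Finset.prod_congr rfl fun i hi => by rw [← hf', (Finset.mem_filter.mp hi).2],
    Finset.prod_pow, Finset.prod_pow_eq_pow_sum] at hprod
  have h1 : ∑ i ∈ Finset.range (2 * m), i = m * (2 * m - 1) := by
    have := Finset.sum_range_id_mul_two (2 * m)
    nlinarith
  have h2 : ω ^ m = -1 := (hω.pow (by omega) (mul_comm 2 m)).eq_neg_one_of_two_right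
  rw [h1, pow_mul, h2, Odd.neg_one_pow ⟨m - 1, by omega⟩,
    neg_one_pow_eq_one_iff_even (by norm_num)] at hprod
  exact hprod

omit [Finite G] in
theorem sum_zp_mul_eq_zero (hz : orderOf z = p) {χ : G → ℂ} (hχ : IsCharacter G χ)
    (h : ∑ b : ZMod p, χ (zp z b) = 0) (n : G) : ∑ b : ZMod p, χ (zp z b * n) = 0 := by
  obtain ⟨d, ρ, rfl⟩ := hχ
  have hp0 := cast_p_ne_zero (p := p)
  let π : End ℂ (Fin d → ℂ) := (p : ℂ)⁻¹ • ∑ b : ZMod p, ρ (zp z b)
  have h1 : IsIdempotentElem π := by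
    have h2 : ∀ a : ZMod p, ρ (zp z a) * ∑ b : ZMod p, ρ (zp z b) = ∑ b : ZMod p, ρ (zp z b) := by
      intro a
      rw [Finset.mul_sum]
      exact Fintype.sum_equiv (Equiv.addLeft a) _ _ fun b => by simp [zp_add hz]
    simp only [IsIdempotentElem, π, smul_mul_smul_comm, Finset.sum_mul, h2, Finset.sum_const,
      Finset.card_univ, ZMod.card, ← Nat.cast_smul_eq_nsmul ℂ, smul_smul]
    rw [inv_mul_cancel_right₀ hp0]
  have h2 : π = 0 := LinearMap.IsIdempotentElem.eq_zero_of_trace_eq_zero h1 (by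
    simp only [π, map_smul, map_sum]
    exact smul_eq_zero_of_right _ h)
  have h3 : ∑ b : ZMod p, ρ (zp z b) = 0 := (smul_eq_zero.mp h2).resolve_left (inv_ne_zero hp0)
  simp only [Representation.character, map_mul, ← map_sum, ← Finset.sum_mul, h3, zero_mul,
    map_zero]

omit [Finite G] in
theorem apply_eq_zero_of_conj (hz : orderOf z = p) {χ : G → ℂ} (hχ : IsCharacter G χ)
    (h : ∑ b : ZMod p, χ (zp z b) = 0) {n : G} {c : ZMod p} (hc : c ≠ 1)
    (hn : n * z * n⁻¹ = zp z c) : χ n = 0 := by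
  have h1 := sum_zp_mul_eq_zero hz hχ h n
  have h2 : ∀ b : ZMod p, χ (zp z b * n) = χ n := fun b => by
    have h3 := conj_zp hz hn (b / (c - 1))
    rw [← classFun_conj_inv (char_isClassFunction hχ) n (zp z (b / (c - 1))), mul_assoc,
      mul_inv_eq_iff_eq_mul.mp h3, ← mul_assoc, ← zp_neg hz, ← zp_add hz]
    congr 3
    have := sub_ne_zero.mpr hc
    field_simp
    ring
  simp only [h2, Finset.sum_const, Finset.card_univ, ZMod.card, nsmul_eq_mul] at h1
  exact (mul_eq_zero.mp h1).resolve_left cast_p_ne_zero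

namespace Data

variable (D : Data G p z)

theorem two_mul_le_deg [IsSimpleGroup G] (hG : commutator G = ⊤) (hz : orderOf z = p)
    (hK : D.K ≠ ⊥) {χ : IrrCharacter G} (h : χ ∈ D.A ∨ χ ∈ D.E) (h1 : χ ≠ irrOne G) :
    2 * p ≤ deg (χ : G → ℂ) := by
  obtain ⟨⟨y, hy⟩, hy1⟩ := ne_bot_iff_exists_ne_one.mp hK
  have h2 := (D.mem_K y).mp hy
  refine stanton hG hz (irr_isCharacter χ.2) h2.1 h2.2 (fun h3 => hy1 ?_) fun j k hj => ?_
  · rw [← char_mem_charKer_iff (irr_isCharacter χ.2),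
      irr_charKer_eq_bot_of_simple χ.2 fun h => h1 (Subtype.ext h)] at h3
    exact Subtype.ext h3
  · have hj' : (j : ZMod p) ≠ 0 := by rwa [Ne, ZMod.natCast_eq_zero_iff]
    rcases h with h | h
    · have h3 := fun y (hy : y ∈ D.K) =>
        dvd_orderOf_zp_mul hz hj' ((D.mem_K y).mp hy).1 ((D.mem_K y).mp hy).2
      rw [zp_natCast hz] at h3
      rw [D.apply_A χ h _ (h3 _ (D.K.pow_mem hy k)), D.apply_A χ h _ (by
        simpa using h3 1 D.K.one_mem)]
    · obtain ⟨a, rfl⟩ := D.mem_E.mp h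
      rw [D.apply_θ a j hj _ (D.K.pow_mem hy k), ← D.apply_θ a j hj 1 D.K.one_mem, mul_one]

/-- the determinant test -/
theorem even_index (hG : commutator G = ⊤) (hz : orderOf z = p) (hK : D.K = ⊥)
    (he : Even (Nat.card D.H)) {χ : G → ℂ} (hχ : IsCharacter G χ) (hd : deg χ = p - 1)
    (h : ∀ b : ZMod p, b ≠ 0 → χ (zp z b) = -1) : Even D.H.index := by
  obtain ⟨m, hm⟩ := he
  rw [← two_mul] at hm
  have hm0 : m ≠ 0 := by have := D.card_H_pos; omega
  obtain ⟨⟨c, hc⟩, hc'⟩ := IsCyclic.exists_ofOrder_eq_natCard (α := D.H)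
  rw [hm, ← Subgroup.orderOf_coe] at hc'
  change orderOf c = 2 * m at hc'
  obtain ⟨n, hn⟩ := isConj_iff.mp ((D.mem_H c).mp hc)
  change n * z * n⁻¹ = zp z (c : ZMod p) at hn
  have hk : ∀ k : ℕ, n ^ k * z * (n ^ k)⁻¹ = zp z ((c ^ k : (ZMod p)ˣ) : ZMod p) := fun k => by
    induction k with
    | zero => simp [zp_one hz]
    | succ k ih =>
      rw [pow_succ', pow_succ', Units.val_mul, ← conj_zp hz hn, ← ih]
      simp [mul_assoc]
  have hne : ∀ k, 0 < k → k < 2 * m → ((c ^ k : (ZMod p)ˣ) : ZMod p) ≠ 1 := fun k h1 h2 h3 =>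
    pow_ne_one_of_lt_orderOf h1.ne' (hc' ▸ h2) (Units.ext h3)
  have hsum : ∑ b : ZMod p, χ (zp z b) = 0 := by
    rw [sum_eq_add_sum_units, zp_zero, ← char_cast_deg hχ, hd]
    simp only [h _ (Units.ne_zero _), Finset.sum_const, Finset.card_univ, ZMod.card_units p,
      nsmul_eq_mul, mul_neg, mul_one, add_neg_cancel]
  refine even_of_vanish hG hχ (g := n) hm0 ?_ (by rw [hd, ← hm, D.card_H_mul_index])
    fun k h1 h2 => apply_eq_zero_of_conj hz hχ hsum (hne k h1 h2) (hk k)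
  have h1 := hk (2 * m)
  rw [← hc', pow_orderOf_eq_one, Units.val_one, zp_one hz, hc', mul_inv_eq_iff_eq_mul] at h1
  have h2 : n ^ (2 * m) ∈ zpowers z := by
    have h3 : zpowers z = centralizer ({z} : Set G) := by
      refine eq_of_le_of_card_ge ?_ ?_
      · rw [zpowers_le, mem_centralizer_singleton_iff_commute]
      · rw [← D.card_K, hK, card_bot, one_mul, card_zpowers_eq hz]
    rw [h3, mem_centralizer_singleton_iff_commute]
    exact h1.symm
  obtain ⟨a, ha⟩ := exists_zp_of_mem hz h2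
  have h3 := conj_zp hz hn a
  rw [ha, (Commute.self_pow n _).eq, mul_inv_cancel_right, ← ha] at h3
  have h4 := zp_injective hz h3
  have h5 := hne 1 one_pos (by omega)
  rw [pow_one] at h5
  have h6 : a = 0 := by
    by_contra h7
    exact h5 (mul_right_cancel₀ h7 (by rw [← h4, one_mul]))
  rw [← ha, h6, zp_zero]

theorem not_dvd_orderOf (hz : orderOf z = p) (hP : ¬ p ^ 2 ∣ Nat.card G) {q : ℕ} (hq : q.Prime)
    (hqp : q ≠ p) (hqK : ¬ q ∣ Nat.card D.K) {g : G} (hg : p ∣ orderOf g) : ¬ q ∣ orderOf g := by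
  obtain ⟨x, a, y, ha, h1, h2, h3⟩ := exists_conj_eq_zp_mul hz hP hg
  have h4 := orderOf_conj' x⁻¹ g
  rw [inv_inv, h3] at h4
  rw [← h4]
  intro h5
  have h6 := h5.trans (commute_zp h1 a).orderOf_mul_dvd_mul_orderOf
  rw [orderOf_zp hz ha] at h6
  rcases hq.dvd_mul.mp h6 with h | h
  · exact hqp ((Nat.prime_dvd_prime_iff_eq hq hp.out).mp h)
  · exact hqK (h.trans (Subgroup.orderOf_dvd_natCard _ ((D.mem_K y).mpr ⟨h1, h2⟩)))

theorem θ_ne_one (a : (ZMod p)ˣ) : D.θ a ≠ irrOne G := fun h => D.θ_notMem a (h ▸ D.one_mem_A)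

theorem θ_mem_principalBlock_iff (hz : orderOf z = p) (hP : ¬ p ^ 2 ∣ Nat.card G) {q : ℕ}
    (hqp : q ≠ p) (hqK : ¬ q ∣ Nat.card D.K) {M : Ideal AlgInt} (hM : IsPModular q M)
    (a b : (ZMod p)ˣ) : D.θ a ∈ principalBlock M G ↔ D.θ b ∈ principalBlock M G := by
  classical
  let := Fintype.ofFinite G
  have h1 : ∀ a, ∑ᶠ x ∈ {x : G | ¬ q ∣ orderOf x}, (D.θ a : G → ℂ) x =
      -∑ x ∈ Finset.univ.filter (fun x : G => q ∣ orderOf x), (D.θ 1 : G → ℂ) x := fun a => by
    have h2 := irr_sum_eq_zero (D.θ a).2 fun h => D.θ_ne_one a (Subtype.ext h)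
    rw [← Finset.sum_filter_add_sum_filter_not _ fun x : G => q ∣ orderOf x,
      Finset.sum_congr rfl (g := (D.θ 1 : G → ℂ)) fun x hx => D.θ_apply_eq a 1 fun h =>
        D.not_dvd_orderOf hz hP hM.1 hqp hqK h (Finset.mem_filter.mp hx).2] at h2
    rw [← eq_neg_of_add_eq_zero_right h2, ← finsum_mem_coe_finset]
    simp
  rw [CL.Blocks.mem_principalBlock_iff hM, CL.Blocks.mem_principalBlock_iff hM, h1, h1]

open scoped Classical in
/-- the block intersection lemma of Brauer and Tuan -/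
theorem inter (hz : orderOf z = p) (hP : ¬ p ^ 2 ∣ Nat.card G) {q : ℕ}
    (hqp : q ≠ p) (hqK : ¬ q ∣ Nat.card D.K) {M : Ideal AlgInt} (hM : IsPModular q M) {b : ℕ}
    (hb : q ^ b ∣ Nat.card G) :
    ((q ^ b : ℕ) : ℤ) ∣ ∑ χ ∈ D.A.filter (· ∈ principalBlock M G), D.δ χ * deg (χ : G → ℂ) +
      if D.θ 1 ∈ principalBlock M G then D.ε * deg (D.θ 1 : G → ℂ) else 0 := by
  have := hM.2.1
  have : Fact q.Prime := ⟨hM.1⟩
  let := Fintype.ofFinite D.K
  let U : G → ℂ := ∑ χ ∈ D.A.filter (· ∈ principalBlock M G), (D.δ χ : ℂ) • (χ : G → ℂ) +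
    ((if D.θ 1 ∈ principalBlock M G then D.ε else 0 : ℤ) : ℂ) • (D.θ 1 : G → ℂ)
  have hU : IsGeneralizedCharacter G U := gen_add
    (gen_sum _ fun χ _ => gen_intCast_smul _ (gen_of_irr χ.2))
    (gen_intCast_smul _ (gen_of_irr (D.θ 1).2))
  have hzy : ∀ y : D.K, p ∣ orderOf (z * y) := fun y => by
    have := dvd_orderOf_zp_mul hz one_ne_zero ((D.mem_K y).mp y.2).1 ((D.mem_K y).mp y.2).2
    rwa [zp_one hz] at this
  have h0 : ∀ x, q ∣ orderOf x → U x = 0 := fun x hx => by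
    have hxp : ¬ p ∣ orderOf x := fun h => D.not_dvd_orderOf hz hP hM.1 hqp hqK h hx
    have h1 : ∀ y : D.K, ∑ χ ∈ Finset.univ.filter (· ∈ principalBlock M G),
        (χ : G → ℂ) (z * y) * conj ((χ : G → ℂ) x) = 0 := fun y => by
      rw [← sum_mul_conj_eq_zero_of_regular_singular hM
        (memLocalRing_blockCoeff (isPBlock_principalBlock (M := M) (G := G)))
        (D.not_dvd_orderOf hz hP hM.1 hqp hqK (hzy y)) hx, ← finsum_mem_coe_finset]
      simp
    have h2 := Finset.sum_eq_zero (s := Finset.univ) fun y _ => h1 y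
    rw [Finset.sum_comm] at h2
    simp only [← Finset.sum_mul] at h2
    rw [← Finset.sum_subset (s₁ := D.A.filter (· ∈ principalBlock M G) ∪
      D.E.filter (· ∈ principalBlock M G)) (fun χ h => by
        simp only [Finset.mem_union, Finset.mem_filter, Finset.mem_univ, true_and] at h ⊢
        exact h.elim (·.2) (·.2)) (fun χ h1 h2 => by
        have h1' := (Finset.mem_filter.mp h1).2
        simp only [Finset.mem_union, Finset.mem_filter, h1', and_true, not_or] at h2
        have := D.other χ h2.1 (fun a h => h2.2 (D.mem_E.mpr ⟨a, h.symm⟩)) 1 hp.out.not_dvd_one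
        rw [finsum_eq_sum_of_fintype, pow_one] at this
        rw [this, zero_mul]),
      Finset.sum_union (Finset.disjoint_filter_filter D.disjoint_A_E)] at h2
    have h3 : (Nat.card D.K : ℂ) * conj (U x) = 0 := by
      rw [← h2]
      simp only [U, Pi.add_apply, Finset.sum_apply, Pi.smul_apply, smul_eq_mul, map_add, map_sum,
        map_mul, map_intCast, mul_add, Finset.mul_sum]
      congr 1
      · refine Finset.sum_congr rfl fun χ h => ?_
        simp only [D.apply_A χ (Finset.mem_filter.mp h).1 _ (hzy _), Finset.sum_const,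
          Finset.card_univ, ← Nat.card_eq_fintype_card, nsmul_eq_mul, mul_assoc]
      · split_ifs with h
        · rw [Finset.filter_true_of_mem fun φ hφ => by
            obtain ⟨a, rfl⟩ := D.mem_E.mp hφ
            exact (D.θ_mem_principalBlock_iff hz hP hqp hqK hM a 1).mpr h, D.sum_E]
          have h4 : ∀ (a : (ZMod p)ˣ) (y : D.K), (D.θ a : G → ℂ) (z * y) = -D.ε * eta D.H a :=
            fun a y => by simpa using D.apply_θ a 1 hp.out.not_dvd_one y y.2
          have h5 := sum_quot_eta D.H (one_ne_zero (α := ZMod p))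
          simp only [mul_one] at h5
          simp only [h4, D.θ_apply_eq _ 1 hxp, Finset.sum_const, Finset.card_univ,
            ← Nat.card_eq_fintype_card, nsmul_eq_mul, ← Finset.sum_mul, ← Finset.mul_sum, h5]
          ring
        · rw [Finset.filter_false_of_mem fun φ hφ h' => by
            obtain ⟨a, rfl⟩ := D.mem_E.mp hφ
            exact h ((D.θ_mem_principalBlock_iff hz hP hqp hqK hM a 1).mp h')]
          simp
    simpa using (mul_eq_zero.mp h3).resolve_left card_K_ne_zero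
  obtain ⟨Q, hQ⟩ := Sylow.exists_subgroup_card_pow_prime q hb
  let := Fintype.ofFinite Q
  obtain ⟨n, hn⟩ := gen_inner_int (gen_restrict hU Q) gen_one
  rw [classInner_one_right, Finset.sum_eq_single (1 : Q) (fun (x : Q) _ hx => h0 x (by
    obtain ⟨k, -, hk⟩ := (Nat.dvd_prime_pow hM.1).mp (hQ ▸ orderOf_dvd_natCard x)
    rw [Subgroup.orderOf_coe, hk]
    refine dvd_pow_self q fun h => hx ?_
    rwa [h, pow_zero, orderOf_eq_one_iff] at hk)) (by simp), hQ,
    inv_mul_eq_iff_eq_mul₀ (Nat.cast_ne_zero.mpr (pow_ne_zero _ hM.1.ne_zero))] at hn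
  refine ⟨n, ?_⟩
  simp only [U, OneMemClass.coe_one, Pi.add_apply, Finset.sum_apply, Pi.smul_apply, smul_eq_mul,
    ← fun χ : IrrCharacter G => irr_cast_deg χ.2] at hn
  split_ifs at hn ⊢
  · exact_mod_cast hn
  · simp only [Int.cast_zero, zero_mul] at hn
    exact_mod_cast hn

end Data

end CL.D1
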